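import Cfsg.Agent.Lib.Helper14.HNx.Main
import Cfsg.Agent.Lib.Helper14.HNx.GamStruct
import Cfsg.Agent.Lib.Helper3.HN.HNRel
import Cfsg.Agent.Lib.Helper21.HNGlue.Cover
import Cfsg.Agent.Lib.Helper21.HNGlue.StructB
import Cfsg.Agent.Lib.Helper21.HNGlue.StructC

set_option autoImplicit false
set_option maxRecDepth 100000
set_option linter.style.haveILetI false

/-!
# The perfect subgroup of index two of `⟨x, y, z⟩ ≤ HN`

From helper14's result on `⟨x, y, z⟩` (S1708): a perfect subgroup `H` of the presented group `HN` which contains `x, y`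
but not `z`, is normalised by `z`, and maps onto `HS` with kernel of order two.
-/

namespace Cfsg.Agent.Lib.Helper21.HNSchur

open Cfsg Subgroup
open scoped commutatorElement
open Cfsg.Agent.Lib.Helper14.HNx
open Cfsg.Agent.Lib.Helper3.HN.HNRel
open Cfsg.Agent.Lib.Helper21.HNGlue

theorem hy6 : gy ^ 6 = 1 := by
  have h : Spor.HN.y ^ 6 ∈ Spor.HN.extra := by
    have e : Spor.HN.extra[0]'(by decide) = Spor.HN.y ^ 6 := rfl
    rw [← e]; exact List.getElem_mem _
  have := one_of_extra h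
  rwa [map_pow] at this

theorem hrel3 : (gx⁻¹ * gy ^ 2 * gx * gy ^ 3) ^ 3 = 1 := by
  have h : ((Spor.HN.x⁻¹) * (Spor.HN.y ^ 2) * Spor.HN.x * (Spor.HN.y ^ 3)) ^ 3 ∈ Spor.HN.extra := by
    have e : Spor.HN.extra[3]'(by decide) =
        ((Spor.HN.x⁻¹) * (Spor.HN.y ^ 2) * Spor.HN.x * (Spor.HN.y ^ 3)) ^ 3 := rfl
    rw [← e]; exact List.getElem_mem _
  have := one_of_extra h
  simp only [map_mul, map_pow, map_inv] at this
  exact this

theorem hrel9 : gz * ((((gy ^ 3) * gx * gy * gx * gy)⁻¹ * gz * ((gy ^ 3) * gx * gy * gx * gy)) * gx) ^ 3 = 1 := by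
  have h : Spor.HN.z * ((((( Spor.HN.y ^ 3) * Spor.HN.x * Spor.HN.y * Spor.HN.x * Spor.HN.y)⁻¹ * Spor.HN.z *
      ((Spor.HN.y ^ 3) * Spor.HN.x * Spor.HN.y * Spor.HN.x * Spor.HN.y)) * Spor.HN.x) ^ 3) ∈ Spor.HN.extra := by
    have e : Spor.HN.extra[9]'(by decide) = Spor.HN.z * ((((( Spor.HN.y ^ 3) * Spor.HN.x * Spor.HN.y *
      Spor.HN.x * Spor.HN.y)⁻¹ * Spor.HN.z *
      ((Spor.HN.y ^ 3) * Spor.HN.x * Spor.HN.y * Spor.HN.x * Spor.HN.y)) * Spor.HN.x) ^ 3) := rfl
    rw [← e]; exact List.getElem_mem _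
  have := one_of_extra h
  simp only [map_mul, map_pow, map_inv] at this
  exact this

theorem gx_mem_hnN : gx ∈ hnN := Subgroup.mem_map_of_mem _ (Subgroup.subset_closure (by simp))
theorem gy_mem_hnN : gy ∈ hnN := Subgroup.mem_map_of_mem _ (Subgroup.subset_closure (by simp))
theorem gz_mem_hnN : gz ∈ hnN := Subgroup.mem_map_of_mem _ (Subgroup.subset_closure (by simp))

theorem hnN_eq_closure : hnN = Subgroup.closure ({gx, gy, gz} : Set Spor.HN) := by
  show (Subgroup.closure _).map _ = _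
  rw [MonoidHom.map_closure]
  congr 1
  simp only [Set.image_insert_eq, Set.image_singleton]
  rfl

/-- in a group of order two, a triple `a, b, c` satisfying the images of two relators of `HN` has `a = b = 1` -/
theorem two_group_aux {Q : Type*} [Group Q] (hQ : Nat.card Q = 2) (a b c : Q)
    (h3 : (a⁻¹ * b ^ 2 * a * b ^ 3) ^ 3 = 1)
    (h9 : c * ((((b ^ 3) * a * b * a * b)⁻¹ * c * ((b ^ 3) * a * b * a * b)) * a) ^ 3 = 1) :
    a = 1 ∧ b = 1 := by
  obtain ⟨g, hg1, hg⟩ := (Nat.card_eq_two_iff' (1 : Q)).mp hQ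
  have hgg : g * g = 1 := by
    by_contra h
    have h1 : g * g = g := hg _ h
    exact hg1 (by simpa using h1)
  have hginv : g⁻¹ = g := inv_eq_of_mul_eq_one_right hgg
  have cases : ∀ q : Q, q = 1 ∨ q = g := fun q => by
    by_cases h : q = 1
    · exact Or.inl h
    · exact Or.inr (hg q h)
  have hg2 : g ^ 2 = 1 := by rw [pow_two, hgg]
  have hg3 : g ^ 3 = g := by rw [pow_succ, hg2, one_mul]
  have hb : b = 1 := by
    rcases cases b with hb | hb
    · exact hb
    · exfalso
      apply hg1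
      rcases cases a with ha | ha
      · rw [ha, hb] at h3
        simp only [hg2, hg3, inv_one, one_mul, mul_one] at h3
        exact h3
      · rw [ha, hb] at h3
        simp only [hginv, hg2, hg3, mul_one, hgg, one_mul] at h3
        exact h3
  refine ⟨?_, hb⟩
  rcases cases a with ha | ha
  · exact ha
  · exfalso
    rw [ha, hb] at h9
    apply hg1
    rcases cases c with hc | hc
    · rw [hc] at h9
      simp only [one_pow, one_mul, mul_one, hgg, inv_one, hg3] at h9
      exact h9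
    · rw [hc] at h9
      simp only [one_pow, one_mul, mul_one, hgg, inv_one] at h9
      exact h9

/-- the data on `HN` needed for the lifting argument -/
theorem hn_data (hschur : Cfsg.HasCyclicSchurMultiplier ↥Cfsg.Spor.HS 2)
    (hx : (PresentedGroup.mk Main.HNrels Cfsg.Spor.HN.x) ^ 2 ≠ 1) :
    ∃ (H : Subgroup Spor.HN) (θ : ↥H →* ↥Spor.HS), ⁅H, H⁆ = H ∧ Function.Surjective θ ∧
      Nat.card θ.ker = 2 ∧ gx ∈ H ∧ gy ∈ H ∧ gz ∉ H ∧ (∀ n ∈ H, gz * n * gz⁻¹ ∈ H) ∧ H ≤ hnN := by
  obtain ⟨K0, hK0n, hK0i, hcov⟩ := Main.main_of hschur hx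
  -- `HS` is simple and not abelian
  obtain ⟨-, S, -, -, hSs, hScard, ⟨e⟩, -⟩ := GamStruct.gam_structure
  haveI : Finite S := Nat.finite_of_card_ne_zero (by rw [hScard]; norm_num)
  have hSna : ∃ a b : S, a * b ≠ b * a := exists_not_comm_of_simple hSs (by rw [hScard]; norm_num)
  have hHSs : IsSimpleGroup ↥Spor.HS := e.symm.isSimpleGroup
  have hHSna : ∃ a b : ↥Spor.HS, a * b ≠ b * a := by
    obtain ⟨a, b, hab⟩ := hSna
    refine ⟨e a, e b, fun h => hab ?_⟩
    apply e.injective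
    rw [map_mul, map_mul, h]
  obtain ⟨hperfK, -⟩ := cover_facts hcov hHSs hHSna
  obtain ⟨hcen2, ⟨iso⟩, -⟩ := hcov
  -- the elements of `N`
  let nx : ↥hnN := ⟨gx, gx_mem_hnN⟩
  let ny : ↥hnN := ⟨gy, gy_mem_hnN⟩
  let nz : ↥hnN := ⟨gz, gz_mem_hnN⟩
  -- the quotient of order two
  have hQ : Nat.card (↥hnN ⧸ K0) = 2 := hK0i
  have h3 : ((QuotientGroup.mk' K0 nx)⁻¹ * (QuotientGroup.mk' K0 ny) ^ 2 * (QuotientGroup.mk' K0 nx) *
      (QuotientGroup.mk' K0 ny) ^ 3) ^ 3 = 1 := by
    rw [← map_inv, ← map_pow, ← map_pow, ← map_mul, ← map_mul, ← map_mul, ← map_pow]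
    have : (nx⁻¹ * ny ^ 2 * nx * ny ^ 3) ^ 3 = 1 := Subtype.ext hrel3
    rw [this, map_one]
  have h9 : (QuotientGroup.mk' K0 nz) * (((((QuotientGroup.mk' K0 ny) ^ 3) * (QuotientGroup.mk' K0 nx) *
      (QuotientGroup.mk' K0 ny) * (QuotientGroup.mk' K0 nx) * (QuotientGroup.mk' K0 ny))⁻¹ *
      (QuotientGroup.mk' K0 nz) * (((QuotientGroup.mk' K0 ny) ^ 3) * (QuotientGroup.mk' K0 nx) *
      (QuotientGroup.mk' K0 ny) * (QuotientGroup.mk' K0 nx) * (QuotientGroup.mk' K0 ny))) *
      (QuotientGroup.mk' K0 nx)) ^ 3 = 1 := by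
    have : nz * ((((ny ^ 3) * nx * ny * nx * ny)⁻¹ * nz * ((ny ^ 3) * nx * ny * nx * ny)) * nx) ^ 3 = 1 :=
      Subtype.ext hrel9
    have h := congrArg (QuotientGroup.mk' K0) this
    simpa only [map_mul, map_pow, map_inv, map_one] using h
  obtain ⟨hqx, hqy⟩ := two_group_aux hQ _ _ _ h3 h9
  have hnx : nx ∈ K0 := (QuotientGroup.eq_one_iff nx).mp hqx
  have hny : ny ∈ K0 := (QuotientGroup.eq_one_iff ny).mp hqy
  have hnz : nz ∉ K0 := by
    intro hnz
    have htop : K0 = ⊤ := by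
      rw [eq_top_iff]
      intro n _
      have hn : (n : Spor.HN) ∈ Subgroup.closure ({gx, gy, gz} : Set Spor.HN) := by
        rw [← hnN_eq_closure]; exact n.2
      have key : ∀ g : Spor.HN, g ∈ Subgroup.closure ({gx, gy, gz} : Set Spor.HN) →
          ∀ hg : g ∈ hnN, (⟨g, hg⟩ : ↥hnN) ∈ K0 := by
        intro g hg
        induction hg using Subgroup.closure_induction with
        | mem g hg =>
          intro hg'
          rcases hg with rfl | rfl | rfl
          · exact hnx
          · exact hny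
          · exact hnz
        | one => intro _; exact K0.one_mem
        | mul a b ha hb iha ihb =>
          intro _
          have ha' : a ∈ hnN := by rw [hnN_eq_closure]; exact ha
          have hb' : b ∈ hnN := by rw [hnN_eq_closure]; exact hb
          exact K0.mul_mem (iha ha') (ihb hb')
        | inv a ha iha =>
          intro _
          have ha' : a ∈ hnN := by rw [hnN_eq_closure]; exact ha
          exact K0.inv_mem (iha ha')
      exact key n.1 hn n.2
    rw [htop, Subgroup.index_top] at hK0i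
    omega
  -- the subgroup of `HN`
  refine ⟨K0.map hnN.subtype, ?_⟩
  let eq : ↥K0 ≃* ↥(K0.map hnN.subtype) := K0.equivMapOfInjective hnN.subtype hnN.subtype_injective
  let θ : ↥(K0.map hnN.subtype) →* ↥Spor.HS :=
    (iso.toMonoidHom.comp (QuotientGroup.mk' (Subgroup.center ↥K0))).comp eq.symm.toMonoidHom
  refine ⟨θ, ?_, ?_, ?_, ?_, ?_, ?_, ?_, ?_⟩
  · -- perfect
    have h1 : ⁅K0, K0⁆ = K0 := by
      have := K0.map_subtype_commutator
      rw [hperfK, ← MonoidHom.range_eq_map, Subgroup.range_subtype] at this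
      exact this.symm
    rw [← Subgroup.map_commutator, h1]
  · exact iso.surjective.comp ((QuotientGroup.mk'_surjective _).comp eq.symm.surjective)
  · -- the kernel
    have hker : θ.ker = (Subgroup.center ↥K0).map eq.toMonoidHom := by
      ext h
      rw [MonoidHom.mem_ker, Subgroup.mem_map]
      constructor
      · intro hh
        have h1 : QuotientGroup.mk' (Subgroup.center ↥K0) (eq.symm h) = 1 := by
          apply iso.injective
          rw [map_one]
          exact hh
        refine ⟨eq.symm h, (QuotientGroup.eq_one_iff _).mp h1, ?_⟩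
        exact eq.apply_symm_apply h
      · rintro ⟨k, hk, rfl⟩
        show iso (QuotientGroup.mk' _ (eq.symm (eq k))) = 1
        have h1 : QuotientGroup.mk' (Subgroup.center ↥K0) k = 1 := (QuotientGroup.eq_one_iff k).mpr hk
        rw [eq.symm_apply_apply, h1, map_one]
    rw [hker, Subgroup.card_map_of_injective eq.injective]
    exact hcen2
  · exact ⟨nx, hnx, rfl⟩
  · exact ⟨ny, hny, rfl⟩
  · rintro ⟨n, hn, hnz'⟩
    apply hnz
    have : n = nz := Subtype.ext hnz'
    rwa [← this]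
  · rintro _ ⟨n, hn, rfl⟩
    refine ⟨nz * n * nz⁻¹, hK0n.conj_mem n hn nz, rfl⟩
  · rintro _ ⟨n, -, rfl⟩
    exact n.2

end Cfsg.Agent.Lib.Helper21.HNSchur
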