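import Cfsg.Agent.Lib.Helper21.HNGlue.Coatom
import Cfsg.Agent.Lib.Helper21.HNGlue.StructC
import Cfsg.Agent.Lib.Helper16.HNP.Main

set_option autoImplicit false
set_option maxRecDepth 100000
set_option linter.style.haveILetI false

/-!
# A solution of the word problem of the presented group `Spor.HN`

`N = ⟨x, y, z⟩` is the stabiliser of the point `0` in helper16's permutation representation on 1539000 points, and
`N` acts faithfully on the orbit `O1` of the point `t • 0` (1408 points): the kernel is normal in `N`, so it would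
contain `x²` (helper14), which moves the point `1 ∈ O1`.  Hence a word in `x, y, z, t` is trivial in `HN` as soon as
it fixes the point `0` and the 1408 points of `O1`.
-/

namespace Cfsg.Agent.Lib.Helper21.HNSchur.Solver

open Cfsg
open Cfsg.Agent.Lib.Helper28.TC2Upper Cfsg.Agent.Lib.Helper28.TC2Lower Cfsg.Agent.Lib.Helper28.TC2Glue
open Cfsg.Agent.Lib.Helper3.HN Cfsg.Agent.Lib.Helper3.HN.HNRel Cfsg.Agent.Lib.Helper3.HN.Tabs
open Cfsg.Agent.Lib.Helper3.HN.NKit Cfsg.Agent.Lib.Helper3.HN.Index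
open Cfsg.Agent.Lib.Helper16.HNP.Table
open Cfsg.Agent.Lib.Helper21.HNGlue.Coatom

/-- the orbit of the point `t • 0 = 4` under `⟨x, y, z⟩` -/
def O1 : List ℕ := [1, 2, 3, 4, 5, 6, 7, 8, 9, 10, 11, 12, 13, 14, 15, 16, 17, 18, 19, 20, 21, 22, 23, 24, 25, 26, 27, 28, 29, 30, 31, 32, 33, 34, 35, 36, 37, 38, 39, 40, 41, 42, 43, 44, 45, 46, 48, 49, 50, 51, 52, 53, 54, 55, 56, 57, 58, 59, 60, 61, 62, 63, 64, 65, 66, 67, 68, 69, 70, 71, 72, 73, 74, 75, 76, 77, 78, 79, 80, 82, 83, 84, 85, 86, 87, 88, 89, 90, 91, 92, 93, 94, 95, 96, 97, 98, 99, 100, 101, 102, 103, 104, 105, 106, 107, 108, 109, 110, 111, 112, 113, 114, 117, 118, 119, 120, 121, 122, 123, 124, 125, 126, 127, 128, 129, 130, 131, 132, 133, 134, 135, 136, 137, 138, 139, 140, 141, 142, 143, 144, 146, 147, 148, 149, 150, 151, 152, 153, 154, 155, 156, 157, 158, 159, 160, 161, 162, 166, 167, 168, 169, 170, 171, 172, 173, 174, 175, 176, 177, 178, 179, 180, 181, 182, 183, 184, 185, 186,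 187, 188, 189, 190, 191, 192, 193, 194, 197, 198, 199, 200, 201, 202, 203, 204, 205, 206, 207, 208, 209, 210, 211, 212, 213, 214, 215, 216, 217, 218, 219, 220, 221, 222, 223, 224, 225, 226, 227, 228, 229, 230, 231, 232, 233, 234, 235, 236, 237, 238, 239, 240, 241, 242, 249, 250, 251, 252, 253, 254, 255, 256, 257, 258, 259, 260, 261, 262, 263, 264, 265, 266, 267, 268, 269, 270, 271, 272, 273, 274, 275, 276, 277, 278, 279, 280, 281, 282, 283, 284, 285, 286, 287, 293, 294, 295, 296, 297, 298, 299, 300, 301, 302, 303, 304, 305, 306, 307, 308, 309, 310, 311, 312, 313, 314, 315, 316, 317, 318, 319, 320, 321, 322, 323, 324, 325, 326, 327, 328, 329, 330, 331, 332, 333, 334, 342, 343, 344, 345, 346, 347, 348, 349, 350, 351, 352, 359, 360, 361, 362, 363, 364, 370, 371, 372, 373, 374, 375, 376, 377, 378, 379, 380, 381, 382, 383, 384, 385, 386, 387, 388, 389, 390, 391, 392, 393, 394, 395, 396, 397, 398, 399, 400, 401, 402, 403, 404, 405, 412, 413,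 414, 415, 416, 417, 418, 419, 420, 421, 422, 423, 424, 425, 426, 427, 428, 429, 430, 431, 432, 433, 434, 435, 436, 437, 438, 439, 440, 441, 446, 447, 448, 449, 450, 451, 452, 453, 454, 455, 456, 457, 458, 459, 460, 461, 462, 463, 464, 465, 466, 467, 468, 469, 470, 471, 472, 473, 479, 480, 481, 482, 483, 484, 485, 486, 487, 488, 489, 490, 491, 492, 493, 494, 495, 496, 497, 498, 499, 500, 501, 502, 503, 504, 511, 512, 513, 514, 515, 516, 517, 518, 519, 520, 521, 522, 523, 524, 531, 532, 533, 534, 535, 536, 537, 538, 539, 540, 541, 542, 543, 544, 545, 546, 547, 548, 549, 550, 551, 552, 553, 554, 555, 556, 557, 558, 559, 560, 561, 562, 563, 564, 565, 566, 567, 568, 569, 570, 571, 572, 573, 574, 575, 576, 577, 578, 579, 580, 581, 582, 583, 584, 585, 586, 587, 588, 597, 598, 599, 600, 601, 602, 603, 604, 605, 606, 607, 608, 609, 610, 611, 612, 613, 614, 615, 616, 617, 618, 619, 620, 621, 622, 623, 624, 625, 626, 627, 628, 629, 630, 631, 640,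 641, 642, 643, 644, 645, 646, 647, 648, 649, 650, 651, 652, 653, 654, 655, 656, 657, 658, 659, 660, 661, 662, 663, 664, 665, 666, 667, 668, 669, 670, 671, 672, 673, 674, 675, 676, 677, 678, 687, 688, 689, 690, 691, 692, 693, 694, 695, 696, 697, 698, 699, 700, 701, 702, 703, 704, 705, 706, 707, 708, 709, 710, 711, 712, 713, 714, 715, 716, 717, 718, 719, 720, 721, 722, 723, 724, 725, 726, 727, 736, 737, 738, 739, 740, 741, 742, 743, 744, 745, 746, 747, 748, 749, 750, 751, 752, 753, 754, 755, 756, 757, 758, 759, 760, 761, 762, 763, 764, 773, 774, 775, 776, 777, 778, 779, 780, 781, 782, 783, 784, 785, 786, 787, 788, 789, 790, 791, 792, 793, 794, 795, 796, 797, 798, 799, 800, 801, 802, 803, 804, 805, 806, 807, 808, 809, 810, 811, 812, 822, 823, 824, 825, 826, 827, 828, 829, 830, 831, 832, 833, 834, 835, 836, 837, 838, 839, 840, 849, 850, 851, 852, 853, 854, 855, 856, 857, 858, 859, 860, 861, 862, 863, 864, 872, 873, 874, 875, 876, 877, 878,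 879, 880, 881, 882, 883, 884, 885, 886, 887, 888, 889, 890, 891, 892, 893, 894, 895, 896, 897, 907, 908, 909, 910, 911, 912, 913, 914, 915, 916, 917, 918, 919, 920, 921, 922, 923, 924, 925, 926, 934, 935, 936, 937, 938, 939, 940, 941, 942, 943, 944, 945, 946, 947, 948, 949, 950, 951, 952, 953, 954, 955, 956, 957, 958, 959, 960, 961, 962, 963, 964, 965, 966, 967, 968, 969, 970, 971, 972, 973, 974, 975, 976, 977, 987, 988, 989, 990, 991, 992, 993, 994, 995, 996, 997, 998, 999, 1000, 1001, 1002, 1003, 1004, 1005, 1006, 1007, 1008, 1009, 1010, 1011, 1012, 1013, 1014, 1015, 1016, 1017, 1018, 1019, 1020, 1021, 1022, 1030, 1031, 1032, 1033, 1034, 1035, 1036, 1037, 1038, 1039, 1040, 1041, 1042, 1043, 1044, 1045, 1046, 1047, 1048, 1049, 1050, 1051, 1052, 1053, 1054, 1055, 1056, 1057, 1058, 1059, 1060, 1061, 1062, 1063, 1064, 1065, 1066, 1067, 1068, 1069, 1070, 1071, 1072, 1073, 1074, 1075, 1076, 1077, 1078, 1079, 1080, 1081, 1090, 1091, 1092,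 1093, 1094, 1095, 1096, 1097, 1098, 1099, 1100, 1101, 1102, 1103, 1104, 1105, 1106, 1107, 1108, 1109, 1110, 1111, 1112, 1113, 1114, 1115, 1116, 1117, 1125, 1126, 1127, 1128, 1129, 1130, 1131, 1132, 1133, 1134, 1135, 1136, 1137, 1138, 1139, 1140, 1144, 1145, 1146, 1147, 1148, 1149, 1150, 1151, 1152, 1153, 1154, 1155, 1156, 1157, 1158, 1159, 1160, 1161, 1162, 1163, 1164, 1165, 1166, 1167, 1174, 1175, 1176, 1177, 1178, 1179, 1180, 1181, 1182, 1183, 1184, 1185, 1186, 1187, 1188, 1189, 1190, 1191, 1192, 1199, 1200, 1201, 1202, 1203, 1204, 1205, 1211, 1212, 1213, 1214, 1215, 1216, 1217, 1218, 1219, 1220, 1221, 1222, 1223, 1224, 1225, 1226, 1227, 1228, 1236, 1237, 1238, 1239, 1240, 1241, 1242, 1243, 1244, 1245, 1246, 1264, 1265, 1266, 1267, 1275, 1276, 1277, 1278, 1279, 1286, 1287, 1288, 1289, 1290, 1291, 1292, 1293, 1294, 1295, 1296, 1302, 1303, 1304, 1305, 1306, 1307, 1308, 1309, 1310, 1311, 1316, 1317, 1318, 1319, 1320, 1321, 1322, 1323,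 1330, 1331, 1332, 1368, 1369, 1370, 1374, 1375, 1382, 1383, 1384, 1385, 1386, 1387, 1388, 1389, 1392, 1393, 1400, 1401, 1402, 1403, 1404, 1405, 1406, 1407, 1408, 1409, 1410, 1411, 1412, 1413, 1414, 1415, 1416, 1417, 1426, 1427, 1428, 1429, 1430, 1431, 1432, 1433, 1442, 1443, 1444, 1445, 1446, 1447, 1448, 1455, 1456, 1457, 1458, 1459, 1460, 1461, 1462, 1463, 1464, 1465, 1466, 1475, 1476, 1477, 1486, 1487, 1488, 1489, 1490, 1491, 1492, 1493, 1494, 1495, 1496, 1506, 1507, 1508, 1514, 1515, 1516, 1517, 1518, 1519, 1520, 1521, 1522, 1525, 1526, 1527, 1528, 1538, 1546, 1547, 1548, 1549, 1550, 1551, 1552, 1553, 1554, 1555, 1556, 1557, 1558, 1559, 1560, 1561, 1562, 1563, 1564, 1565, 1566, 1567, 1576, 1577, 1578, 1579, 1580, 1581, 1582, 1583, 1584, 1585, 1586, 1594, 1595, 1596, 1597, 1598, 1599, 1600, 1601, 1602, 1603, 1604, 1605, 1606, 1607, 1608, 1609, 1610, 1611, 1612, 1613, 1614, 1615, 1624, 1625, 1626, 1627, 1628, 1629, 1630, 1631, 1632,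 1633, 1634, 1642, 1648, 1649, 1650, 1651, 1652, 1653, 1654, 1655, 1656, 1657, 1658, 1659, 1667, 1668, 1669, 1670, 1671, 1672, 1673, 1680, 1681, 1682, 1683, 1689, 1690, 1691, 1713, 1718, 1719, 1720, 1721, 1725, 1726, 1731, 1732, 1733, 1734, 1735, 1736, 1737, 1775, 1779, 1792, 1793, 1794, 1795, 1796, 1797, 1798, 1805, 1806, 1807, 1808, 1809, 1810, 1818, 1824, 1825, 1826, 1827, 1832, 1839, 1840, 1849, 1850, 1851, 1852, 1861, 1862, 1868, 1874, 1875, 1876, 1881, 1882, 1883, 1884, 1885, 1886, 1887, 1888, 1889, 1890, 1891, 1892, 1893, 1894, 1895, 1896, 1904, 1905, 1906, 1907, 1908, 1916, 1917, 1918, 1919, 1920, 1921, 1925, 1926, 1927, 1928, 1929, 1930, 1934, 1937, 1953, 1954, 1955, 1985, 1986, 1987, 1988, 1989, 1990, 1997, 1998, 2024, 2025, 2038, 2044, 2045, 2048, 2049, 2050, 2051, 2052, 2053, 2054, 2055, 2056, 2057, 2058, 2065, 2066, 2075, 2076, 2077, 2082, 2083, 2084, 2085, 2104, 2105, 2106, 2123, 2131, 2132, 2133, 2153, 2154, 2155, 2166,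 2185, 2186, 2187, 2188, 2321, 2335, 2358, 2362, 2521, 2538, 2559, 2640]

/-- membership in a list of numbers -/
def memb : List ℕ → ℕ → Bool
  | [], _ => false
  | a :: l, p => or (Nat.beq a p) (memb l p)

theorem memb_iff (l : List ℕ) (p : ℕ) : memb l p = true ↔ p ∈ l := by
  induction l with
  | nil => simp [memb]
  | cons a l ih =>
    simp only [memb, Bool.or_eq_true, List.mem_cons, ih]
    constructor
    · rintro (h | h)
      · exact Or.inl (Nat.eq_of_beq_eq_true h).symm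
      · exact Or.inr h
    · rintro (h | h)
      · left; subst h; exact Nat.beq_refl _
      · exact Or.inr h

/-- the letters `x, x⁻¹, y, y⁻¹, z` map `O1` to itself -/
noncomputable def O1invOK : Bool :=
  O1.all fun p => and (Nat.blt p table.n)
    (and (memb O1 (table.tau 0 p)) (and (memb O1 (table.tau 1 p)) (and (memb O1 (table.tau 2 p))
      (and (memb O1 (table.tau 3 p)) (memb O1 (table.tau 4 p))))))

set_option maxHeartbeats 0 in
theorem O1inv : O1invOK = true := by decide +kernel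

theorem O1_lt {p : ℕ} (hp : p ∈ O1) : p < table.n := by
  have h := (List.all_eq_true.mp O1inv) p hp
  simp only [Bool.and_eq_true] at h
  simpa [Nat.blt_eq] using h.1

theorem O1_tau {p : ℕ} (hp : p ∈ O1) {l : ℕ} (hl : l < 5) : table.tau l p ∈ O1 := by
  have h := (List.all_eq_true.mp O1inv) p hp
  simp only [Bool.and_eq_true, memb_iff] at h
  obtain ⟨-, h0, h1, h2, h3, h4⟩ := h
  interval_cases l
  · exact h0
  · exact h1
  · exact h2
  · exact h3
  · exact h4

theorem one_mem_O1 : 1 ∈ O1 := by decide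

/-- walks along letters of `N` stay in `O1` -/
theorem walk_mem_O1 (w : Wd) (hw : ∀ c ∈ w, c < 5) {p : ℕ} (hp : p ∈ O1) : table.walkT w p ∈ O1 := by
  induction w generalizing p with
  | nil => exact hp
  | cons c w ih =>
    rw [Cfsg.Agent.Lib.Helper28.TC2Lower.Table.walkT_cons]
    exact ih (fun c' hc' => hw c' (List.mem_cons_of_mem _ hc')) (O1_tau hp (hw c (List.mem_cons_self ..)))

theorem allN_iff (w : Wd) : allN w = true ↔ ∀ c ∈ w, c < 5 := by
  induction w with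
  | nil => simp [allN]
  | cons c w ih =>
    simp only [allN, Bool.and_eq_true, ih, List.mem_cons, forall_eq_or_imp, Nat.blt_eq]

/-- the elements of `N` are words in `x, x⁻¹, y, y⁻¹, z` -/
theorem exists_word_of_mem_N {n : Spor.HN} (hn : n ∈ Index.N) : ∃ w : Wd, (∀ c ∈ w, c < 5) ∧ n = ev lt w := by
  rw [N_eq_closure] at hn
  induction hn using Subgroup.closure_induction with
  | mem g hg =>
    rcases hg with rfl | rfl | rfl
    · exact ⟨[0], by decide, by simp [ev, lt]⟩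
    · exact ⟨[2], by decide, by simp [ev, lt]⟩
    · exact ⟨[4], by decide, by simp [ev, lt]⟩
  | one => exact ⟨[], by simp, rfl⟩
  | mul a b _ _ iha ihb =>
    obtain ⟨wa, hwa, rfl⟩ := iha
    obtain ⟨wb, hwb, rfl⟩ := ihb
    refine ⟨wa ++ wb, ?_, (ev_append lt wa wb).symm⟩
    intro c hc
    rcases List.mem_append.mp hc with h | h
    · exact hwa c h
    · exact hwb c h
  | inv a _ iha =>
    obtain ⟨wa, hwa, rfl⟩ := iha
    refine ⟨winv wa, ?_, (ev_winv wa).symm⟩
    intro c hc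
    unfold winv at hc
    rw [List.mem_reverse, List.mem_map] at hc
    obtain ⟨c', hc', rfl⟩ := hc
    have := hwa c' hc'
    interval_cases c' <;> simp [linv]

section Rep

variable (φ : Spor.HN →* Equiv.Perm (Fin table.n))
  (hφ : ∀ (L : List (Spor.HN.Gen × Bool)) (p : Fin table.n),
    (φ (PresentedGroup.mk Cfsg.Agent.Lib.Helper16.HNP.Main.rels (FreeGroup.mk L)) p).val =
      table.walkT (pathOf Cfsg.Agent.Lib.Helper16.HNP.Main.lw L) p.val)

include hφ

/-- `N` maps `O1` to itself -/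
theorem N_O1 {n : Spor.HN} (hn : n ∈ Index.N) {p : ℕ} (hp : p ∈ O1) : (φ n ⟨p, O1_lt hp⟩).val ∈ O1 := by
  obtain ⟨w, hw, rfl⟩ := exists_word_of_mem_N hn
  rw [hwalk φ hφ w (fun c hc => by have := hw c hc; omega)]
  exact walk_mem_O1 w.reverse (fun c hc => hw c (List.mem_reverse.mp hc)) hp

/-- the kernel of the action of `N` on `O1` -/
def kerO1 : Subgroup Spor.HN where
  carrier := {g | g ∈ Index.N ∧ ∀ p, ∀ hp : p ∈ O1, φ g ⟨p, O1_lt hp⟩ = ⟨p, O1_lt hp⟩}
  one_mem' := ⟨Index.N.one_mem, fun p hp => by rw [map_one]; rfl⟩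
  mul_mem' := by
    rintro a b ⟨ha, ha'⟩ ⟨hb, hb'⟩
    refine ⟨Index.N.mul_mem ha hb, fun p hp => ?_⟩
    rw [map_mul, Equiv.Perm.mul_apply, hb' p hp, ha' p hp]
  inv_mem' := by
    rintro a ⟨ha, ha'⟩
    refine ⟨Index.N.inv_mem ha, fun p hp => ?_⟩
    rw [map_inv, Equiv.Perm.inv_eq_iff_eq, ha' p hp]

theorem kerO1_eq_bot (hschur : Cfsg.HasCyclicSchurMultiplier ↥Cfsg.Spor.HS 2)
    (hx : (PresentedGroup.mk Cfsg.Agent.Lib.Helper14.HNx.Main.HNrels Cfsg.Spor.HN.x) ^ 2 ≠ 1)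
    (hxx : table.walkT (pathOf Cfsg.Agent.Lib.Helper16.HNP.Main.lw [(.x, true), (.x, true)]) 1 = 4) :
    kerO1 φ = ⊥ := by
  by_contra hne
  obtain ⟨-, K, -, -, -, h5⟩ := Cfsg.Agent.Lib.Helper21.HNGlue.hn_struct hschur hx
  have hle : kerO1 φ ≤ Cfsg.Agent.Lib.Helper21.HNGlue.hnN := fun g hg => hg.1
  have hnorm : ∀ n ∈ Cfsg.Agent.Lib.Helper21.HNGlue.hnN, ∀ a ∈ kerO1 φ, n * a * n⁻¹ ∈ kerO1 φ := by
    intro n hn a ha
    have hn' : n ∈ Index.N := hn
    refine ⟨Index.N.mul_mem (Index.N.mul_mem hn' ha.1) (Index.N.inv_mem hn'), fun p hp => ?_⟩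
    have hq := N_O1 φ hφ (Index.N.inv_mem hn') hp
    have e : φ n⁻¹ ⟨p, O1_lt hp⟩ = ⟨(φ n⁻¹ ⟨p, O1_lt hp⟩).val, O1_lt hq⟩ := rfl
    rw [map_mul, map_mul, Equiv.Perm.mul_apply, Equiv.Perm.mul_apply, e, ha.2 _ hq, ← e, map_inv,
      Equiv.Perm.inv_def, Equiv.apply_symm_apply]
  have hmem := h5 (kerO1 φ) hle hnorm hne
  have h1 := hmem.2 1 one_mem_O1
  have h2 := hφ [(.x, true), (.x, true)] ⟨1, O1_lt one_mem_O1⟩
  have e : (PresentedGroup.mk Cfsg.Agent.Lib.Helper16.HNP.Main.rels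
      (FreeGroup.mk [(Cfsg.Spor.HN.Gen.x, true), (Cfsg.Spor.HN.Gen.x, true)]) : Cfsg.Spor.HN) =
      (PresentedGroup.mk Cfsg.Agent.Lib.Helper14.HNx.Main.HNrels Cfsg.Spor.HN.x) ^ 2 := by
    rw [pow_two]; rfl
  rw [e, h1, hxx] at h2
  have h3 : (1 : ℕ) = 4 := h2
  omega

end Rep

/-- the check of a word: it consists of letters, fixes the point `0` and the points of `O1` -/
noncomputable def solveOK (w : Wd) : Bool :=
  and (w.all fun c => Nat.blt c 7)
    (and (Nat.beq (table.walkT w.reverse 0) 0) (O1.all fun p => Nat.beq (table.walkT w.reverse p) p))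

/-- the solution of the word problem -/
theorem ev_eq_one_of (hschur : Cfsg.HasCyclicSchurMultiplier ↥Cfsg.Spor.HS 2)
    (hx : (PresentedGroup.mk Cfsg.Agent.Lib.Helper14.HNx.Main.HNrels Cfsg.Spor.HN.x) ^ 2 ≠ 1)
    (hxx : table.walkT (pathOf Cfsg.Agent.Lib.Helper16.HNP.Main.lw [(.x, true), (.x, true)]) 1 = 4)
    (w : Wd) (h : solveOK w = true) : ev lt w = 1 := by
  obtain ⟨φ, hφ⟩ := Cfsg.Agent.Lib.Helper16.HNP.Main.perm_rep
  unfold solveOK at h
  simp only [Bool.and_eq_true] at h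
  obtain ⟨hlt, h0, hO⟩ := h
  have hlt' : ∀ c ∈ w, c < 7 := by
    intro c hc
    have := (List.all_eq_true.mp hlt) c hc
    simpa [Nat.blt_eq] using this
  have hf : φ (ev lt w) ⟨0, hn_pos⟩ = ⟨0, hn_pos⟩ := by
    apply Fin.ext
    rw [hwalk φ hφ w hlt']
    exact Nat.eq_of_beq_eq_true h0
  have hN := hstab φ hφ _ hf
  have hk : ev lt w ∈ kerO1 φ := by
    refine ⟨hN, fun p hp => ?_⟩
    apply Fin.ext
    rw [hwalk φ hφ w hlt']
    exact Nat.eq_of_beq_eq_true ((List.all_eq_true.mp hO) p hp)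
  rw [kerO1_eq_bot φ hφ hschur hx hxx, Subgroup.mem_bot] at hk
  exact hk

end Cfsg.Agent.Lib.Helper21.HNSchur.Solver
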