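import Cfsg.Agent.Lib.Helper21.HNSchur.LiftF
import Cfsg.Agent.Lib.Helper21.HNSchur.HNData
import Cfsg.Agent.Lib.Helper21.HNSchur.Solver
import Cfsg.Agent.Lib.Helper28.SchurFoxC
import Cfsg.Agent.Lib.Helper29.SchurCyclicSylow

set_option autoImplicit false
set_option maxRecDepth 100000
set_option linter.style.haveILetI false
set_option linter.unusedTactic false

/-!
# The Schur multiplier of `HN` is trivial

For a finite stem extension `σ : Γ → HN` whose kernel has prime exponent `p`: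
* `p ∤ |HN|`: transfer;
* `p ∈ {7, 11, 19}`: the Sylow `p`-subgroup is cyclic of order `p`;
* `p ∈ {2, 3, 5}`: lifts of the four generators which satisfy the fourteen relators (`exists_lifts`), so the
  extension splits.
-/

namespace Cfsg.Agent.Lib.Helper21.HNSchur.Main

open Cfsg Subgroup
open Cfsg.Agent.Lib.Helper3.HN Cfsg.Agent.Lib.Helper3.HN.HNRel
open Cfsg.Agent.Lib.Helper28.SchurFox
open Cfsg.Agent.Lib.Helper16.HNP.Table

section Ids

variable (hschur : Cfsg.HasCyclicSchurMultiplier ↥Cfsg.Spor.HS 2)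
  (hx : (PresentedGroup.mk Cfsg.Agent.Lib.Helper14.HNx.Main.HNrels Cfsg.Spor.HN.x) ^ 2 ≠ 1)
  (hxx : table.walkT (Cfsg.Agent.Lib.Helper28.TC2Glue.pathOf Cfsg.Agent.Lib.Helper16.HNP.Main.lw
    [(.x, true), (.x, true)]) 1 = 4)

include hschur hx hxx

set_option maxHeartbeats 4000000 in
/-- `x⁴ = 1` -/
theorem hx4 : gx * gx * (gx * gx) = 1 := by
  have h := Solver.ev_eq_one_of hschur hx hxx [0, 0, 0, 0] (by decide +kernel)
  have e : ev lt [0, 0, 0, 0] = gx * gx * (gx * gx) := by
    simp only [ev, List.map_cons, List.map_nil, List.prod_cons, List.prod_nil, lt, mul_one, mul_assoc]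
  rw [← e]; exact h

set_option maxHeartbeats 4000000 in
/-- `z` is conjugate to `x²` -/
theorem hconj : gt⁻¹ * gz * gt ^ 2 * gz * (gt⁻¹) ^ 2 * gz * gt = gx * gx := by
  have h := Solver.ev_eq_one_of hschur hx hxx [6, 4, 5, 5, 4, 6, 6, 4, 5, 1, 1] (by decide +kernel)
  have e : ev lt [6, 4, 5, 5, 4, 6, 6, 4, 5, 1, 1] =
      gt⁻¹ * gz * gt ^ 2 * gz * (gt⁻¹) ^ 2 * gz * gt * (gx * gx)⁻¹ := by
    simp only [ev, List.map_cons, List.map_nil, List.prod_cons, List.prod_nil, lt, mul_one]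
    rw [pow_two, pow_two, mul_inv_rev]
    simp only [mul_assoc]
  rw [e] at h
  exact mul_inv_eq_one.mp h

end Ids

/-- the lifts as a function on the generators -/
def gam {Γ : Type*} (x' y' z' t' : Γ) : Spor.HN.Gen → Γ
  | .x => x'
  | .y => y'
  | .z => z'
  | .t => t'

theorem sigma_lift {Γ : Type*} [Group Γ] (σ : Γ →* Spor.HN) (γ : Spor.HN.Gen → Γ)
    (hγ : ∀ g, σ (γ g) = PresentedGroup.of g) (r : FreeGroup Spor.HN.Gen) :
    σ (FreeGroup.lift γ r) = PresentedGroup.mk HNRel.rels r := by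
  have : σ.comp (FreeGroup.lift γ) = PresentedGroup.mk HNRel.rels := by
    apply FreeGroup.ext_hom
    intro g
    rw [MonoidHom.comp_apply, FreeGroup.lift_apply_of, hγ]
    rfl
  exact DFunLike.congr_fun this r

theorem ker_eq_bot_small (hschur : Cfsg.HasCyclicSchurMultiplier ↥Cfsg.Spor.HS 2)
    (hx : (PresentedGroup.mk Cfsg.Agent.Lib.Helper14.HNx.Main.HNrels Cfsg.Spor.HN.x) ^ 2 ≠ 1)
    (hxx : table.walkT (Cfsg.Agent.Lib.Helper28.TC2Glue.pathOf Cfsg.Agent.Lib.Helper16.HNP.Main.lw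
      [(.x, true), (.x, true)]) 1 = 4)
    {Γ : Type} [Group Γ] [Finite Γ] (σ : Γ →* Spor.HN) (hσ : Cfsg.IsStemExtension σ)
    (p : ℕ) (hp : p = 2 ∨ p = 3 ∨ p = 5) (hexp : ∀ a ∈ σ.ker, a ^ p = 1) : σ.ker = ⊥ := by
  obtain ⟨H, θ, hperf, hθs, hθ2, hxH, hyH, hzH, hzn, -⟩ := hn_data hschur hx
  obtain ⟨S, x', y', z', t', hx', hy', hz', ht', hxS, hyS, hzS, hS, ht5', hr12, hr13, hr14⟩ :=
    exists_lifts σ hσ p hp hexp H hperf θ hθs hθ2 hschur gx gy gz gt hxH hyH hzH hzn hzz
      (hx4 hschur hx hxx) hy6 ht5 hxt hty hzt (hconj hschur hx hxx)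
  have hγ : ∀ g, σ (gam x' y' z' t' g) = PresentedGroup.of g := by
    intro g
    cases g
    · exact hx'
    · exact hy'
    · exact hz'
    · exact ht'
  apply ker_eq_bot_of_lifts HNRel.rels σ hσ (gam x' y' z' t') hγ
  intro r hr
  rcases hr with hr | hr
  · obtain ⟨a, ha, -⟩ := hr
    simp [Spor.coxNodes, Spor.HN.edges] at ha
  · have hone : σ (FreeGroup.lift (gam x' y' z' t') r) = 1 := by
      rw [sigma_lift σ _ hγ]; exact one_of_extra hr
    have hfx : FreeGroup.lift (gam x' y' z' t') Spor.HN.x = x' := FreeGroup.lift_apply_of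
    have hfy : FreeGroup.lift (gam x' y' z' t') Spor.HN.y = y' := FreeGroup.lift_apply_of
    have hfz : FreeGroup.lift (gam x' y' z' t') Spor.HN.z = z' := FreeGroup.lift_apply_of
    have hft : FreeGroup.lift (gam x' y' z' t') Spor.HN.t = t' := FreeGroup.lift_apply_of
    simp only [Spor.HN.extra, List.mem_cons, List.not_mem_nil, or_false] at hr
    rcases hr with rfl | rfl | rfl | rfl | rfl | rfl | rfl | rfl | rfl | rfl | rfl | rfl | rfl | rfl
    all_goals first
      | (simp only [map_mul, map_pow, map_inv, hfx, hfy, hfz, hft]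
         first | exact ht5' | exact hr12 | exact hr13 | exact hr14)
      | (apply hS _ hone
         simp only [map_mul, map_pow, map_inv, hfx, hfy, hfz]
         repeat (first | exact hxS | exact hyS | exact hzS | apply S.mul_mem | apply S.pow_mem | apply S.inv_mem)
         done)

theorem trivMult_HN (hschur : Cfsg.HasCyclicSchurMultiplier ↥Cfsg.Spor.HS 2)
    (hx : (PresentedGroup.mk Cfsg.Agent.Lib.Helper14.HNx.Main.HNrels Cfsg.Spor.HN.x) ^ 2 ≠ 1)
    (hxx : table.walkT (Cfsg.Agent.Lib.Helper28.TC2Glue.pathOf Cfsg.Agent.Lib.Helper16.HNP.Main.lw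
      [(.x, true), (.x, true)]) 1 = 4)
    (hcard : Nat.card Spor.HN = 273030912000000) : TrivMult Spor.HN := by
  haveI : Finite Spor.HN := Nat.finite_of_card_ne_zero (by rw [hcard]; norm_num)
  apply trivMult_of_exp
  intro p hp Γ _ _ σ hσ hexp
  by_cases hd : p ∣ Nat.card Spor.HN
  · rw [hcard] at hd
    have hfac : (273030912000000 : ℕ) = 2 ^ 14 * 3 ^ 6 * 5 ^ 6 * 7 * 11 * 19 := by norm_num
    rw [hfac] at hd
    have hcases : p = 2 ∨ p = 3 ∨ p = 5 ∨ p = 7 ∨ p = 11 ∨ p = 19 := by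
      rcases (Nat.Prime.dvd_mul hp).mp hd with h | h
      · rcases (Nat.Prime.dvd_mul hp).mp h with h | h
        · rcases (Nat.Prime.dvd_mul hp).mp h with h | h
          · rcases (Nat.Prime.dvd_mul hp).mp h with h | h
            · rcases (Nat.Prime.dvd_mul hp).mp h with h | h
              · left; exact (Nat.prime_dvd_prime_iff_eq hp Nat.prime_two).mp (hp.dvd_of_dvd_pow h)
              · right; left; exact (Nat.prime_dvd_prime_iff_eq hp Nat.prime_three).mp (hp.dvd_of_dvd_pow h)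
            · right; right; left; exact (Nat.prime_dvd_prime_iff_eq hp Nat.prime_five).mp (hp.dvd_of_dvd_pow h)
          · right; right; right; left; exact (Nat.prime_dvd_prime_iff_eq hp (by norm_num)).mp h
        · right; right; right; right; left; exact (Nat.prime_dvd_prime_iff_eq hp (by norm_num)).mp h
      · right; right; right; right; right; exact (Nat.prime_dvd_prime_iff_eq hp (by norm_num)).mp h
    rcases hcases with rfl | rfl | rfl | rfl | rfl | rfl
    · exact ker_eq_bot_small hschur hx hxx σ hσ 2 (Or.inl rfl) hexp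
    · exact ker_eq_bot_small hschur hx hxx σ hσ 3 (Or.inr (Or.inl rfl)) hexp
    · exact ker_eq_bot_small hschur hx hxx σ hσ 5 (Or.inr (Or.inr rfl)) hexp
    · haveI : Fact (Nat.Prime 7) := ⟨hp⟩
      exact Cfsg.Agent.Lib.Helper29.SchurCyclicSylow.ker_eq_bot_of_prime_once σ hσ 7 hexp
        (by rw [hcard]; norm_num) (by rw [hcard]; norm_num)
    · haveI : Fact (Nat.Prime 11) := ⟨hp⟩
      exact Cfsg.Agent.Lib.Helper29.SchurCyclicSylow.ker_eq_bot_of_prime_once σ hσ 11 hexp
        (by rw [hcard]; norm_num) (by rw [hcard]; norm_num)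
    · haveI : Fact (Nat.Prime 19) := ⟨hp⟩
      exact Cfsg.Agent.Lib.Helper29.SchurCyclicSylow.ker_eq_bot_of_prime_once σ hσ 19 hexp
        (by rw [hcard]; norm_num) (by rw [hcard]; norm_num)
  · exact ker_eq_bot_of_not_dvd' σ hσ p hp hexp hd

end Cfsg.Agent.Lib.Helper21.HNSchur.Main
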