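import Cfsg.Agent.Lib.Helper29.SchurTwoStep

set_option autoImplicit false

/-!
# Lifting a perfect double cover through a central extension

* `lift_perfect_cover`: if `H ≤ G` is perfect and a double cover of a group `F` whose Schur multiplier is cyclic of
  order two, then for every central extension `σ : Γ → G` with `Γ` finite the subgroup `K = [σ⁻¹ H, σ⁻¹ H]` maps onto
  `H` and meets the kernel trivially.  (The argument is the one of `Helper29.SchurTwoStep.ker_eq_bot_of_double_cover`.)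
* `extSubgroup K w = K ∪ K w` for an element `w` normalising `K` with `w² ∈ K`.
-/

namespace Cfsg.Agent.Lib.Helper21.HNSchur

universe u

open Subgroup
open scoped commutatorElement
open Cfsg.Agent.Lib.Helper29.SchurTwoStep

theorem zmod_two_cases (m : Multiplicative (ZMod 2)) : m = 1 ∨ m = Multiplicative.ofAdd 1 := by
  revert m
  decide

/-- a perfect double cover `H` of `F` lifts isomorphically to every central extension, if the multiplier of `F` is
cyclic of order two -/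
theorem lift_perfect_cover {Γ G F : Type u} [Group Γ] [Finite Γ] [Group G] [Group F]
    (σ : Γ →* G) (hs : Function.Surjective σ) (hc : σ.ker ≤ center Γ)
    (H : Subgroup G) (hperf : ⁅H, H⁆ = H)
    (θ : ↥H →* F) (hθs : Function.Surjective θ) (hθ2 : Nat.card θ.ker = 2)
    (hF : Cfsg.HasCyclicSchurMultiplier F 2) :
    (⁅H.comap σ, H.comap σ⁆).map σ = H ∧ ∀ a ∈ σ.ker, a ∈ ⁅H.comap σ, H.comap σ⁆ → a = 1 := by
  set V : Subgroup Γ := H.comap σ with hV
  set K : Subgroup Γ := ⁅V, V⁆ with hK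
  have hVmap : V.map σ = H := Subgroup.map_comap_eq_self_of_surjective hs H
  have hKmap : K.map σ = H := by
    rw [hK, Subgroup.map_commutator, hVmap, hperf]
  refine ⟨hKmap, ?_⟩
  have hVK : V ≤ K ⊔ σ.ker := by
    intro v hv
    have : σ v ∈ K.map σ := by rw [hKmap]; exact hv
    obtain ⟨k, hk, hkv⟩ := this
    have h1 : k⁻¹ * v ∈ σ.ker := by
      rw [MonoidHom.mem_ker, map_mul, map_inv, hkv, inv_mul_cancel]
    have : v = k * (k⁻¹ * v) := by group
    rw [this]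
    exact Subgroup.mul_mem_sup hk h1
  have hKperf : K ≤ ⁅K, K⁆ := by
    have h1 : ⁅V, V⁆ ≤ ⁅K ⊔ σ.ker, K ⊔ σ.ker⁆ := Subgroup.commutator_mono hVK hVK
    exact h1.trans (Cfsg.Agent.Lib.Helper3.SchurM.comm_sup_central_le K σ.ker hc)
  have hperfK : commutator ↥K = ⊤ := by
    rw [eq_top_iff]
    intro k _
    have h1 : (k : Γ) ∈ ⁅K, K⁆ := hKperf k.2
    rw [← K.map_subtype_commutator] at h1
    obtain ⟨k', hk', hkk⟩ := h1
    have : k' = k := Subtype.ext hkk
    rwa [← this]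
  -- the restriction of `σ` to `K`
  let σK : ↥K →* ↥H := (σ.comp K.subtype).codRestrict H (fun k => by
    have : σ (k : Γ) ∈ K.map σ := ⟨k, k.2, rfl⟩
    rw [hKmap] at this
    exact this)
  have hσK : ∀ k : ↥K, ((σK k : ↥H) : G) = σ (k : Γ) := fun k => rfl
  have hσKs : Function.Surjective σK := by
    intro h
    have : (h : G) ∈ K.map σ := by rw [hKmap]; exact h.2
    obtain ⟨k, hk, hkh⟩ := this
    exact ⟨⟨k, hk⟩, Subtype.ext hkh⟩
  have hσKker : ∀ k : ↥K, σK k = 1 → (k : Γ) ∈ σ.ker := by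
    intro k hk
    rw [MonoidHom.mem_ker, ← hσK, hk]
    rfl
  -- the composition
  let ρ : ↥K →* F := θ.comp σK
  have hθc : θ.ker ≤ center ↥H := le_center_of_card_two θ.ker hθ2
  have hstem : Cfsg.IsStemExtension ρ := by
    refine ⟨hθs.comp hσKs, ?_, ?_⟩
    · intro x hx
      have hx1 : σK x ∈ θ.ker := hx
      have hxc : ∀ y : ↥K, ⁅x, y⁆ ∈ center ↥K := by
        intro y
        have h1 : σK ⁅x, y⁆ = 1 := by
          rw [map_commutatorElement, commutatorElement_def, ← mem_center_iff.mp (hθc hx1) (σK y)]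
          group
        have h2 := hc (hσKker _ h1)
        rw [mem_center_iff] at h2 ⊢
        intro g
        exact Subtype.ext (h2 (g : Γ))
      rw [mem_center_iff]
      intro g
      have := commute_commutator x hxc g (by rw [hperfK]; exact mem_top g)
      exact this.symm
    · rw [hperfK]
      exact le_top
  -- the kernel of `ρ` has at most two elements
  obtain ⟨π, hπ⟩ := hF.2 ↥K ρ hstem
  -- a nontrivial element of `ker θ` and its lift
  obtain ⟨h0, hh0, -⟩ := (Nat.card_eq_two_iff' (1 : ↥θ.ker)).mp hθ2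
  obtain ⟨y0, hy0⟩ := hσKs (h0 : ↥H)
  have hy0k : y0 ∈ ρ.ker := by
    rw [MonoidHom.mem_ker]
    show θ (σK y0) = 1
    rw [hy0]
    exact h0.2
  have hy0ne : σK y0 ≠ 1 := by
    rw [hy0]
    intro h
    exact hh0 (Subtype.ext h)
  have hy0ne1 : (⟨y0, hy0k⟩ : ↥ρ.ker) ≠ 1 := by
    intro h
    apply hy0ne
    have : y0 = 1 := congrArg (fun z : ↥ρ.ker => (z : ↥K)) h
    rw [this, map_one]
  intro a ha haK
  by_contra hne
  have hak : (⟨a, haK⟩ : ↥K) ∈ ρ.ker := by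
    rw [MonoidHom.mem_ker]
    show θ (σK ⟨a, haK⟩) = 1
    have : σK ⟨a, haK⟩ = 1 := Subtype.ext (by rw [hσK]; exact ha)
    rw [this, map_one]
  have hane1 : (⟨⟨a, haK⟩, hak⟩ : ↥ρ.ker) ≠ 1 := by
    intro h
    apply hne
    exact congrArg (fun z : ↥ρ.ker => ((z : ↥K) : Γ)) h
  obtain ⟨m1, hm1⟩ := hπ ⟨y0, hy0k⟩
  obtain ⟨m2, hm2⟩ := hπ ⟨⟨a, haK⟩, hak⟩
  have e1 : m1 = Multiplicative.ofAdd 1 := by
    rcases zmod_two_cases m1 with h | h
    · exfalso; apply hy0ne1; rw [← hm1, h, map_one]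
    · exact h
  have e2 : m2 = Multiplicative.ofAdd 1 := by
    rcases zmod_two_cases m2 with h | h
    · exfalso; apply hane1; rw [← hm2, h, map_one]
    · exact h
  have e3 : (⟨y0, hy0k⟩ : ↥ρ.ker) = ⟨⟨a, haK⟩, hak⟩ := by rw [← hm1, ← hm2, e1, e2]
  have e4 : y0 = ⟨a, haK⟩ := congrArg (fun z : ↥ρ.ker => (z : ↥K)) e3
  apply hy0ne
  rw [e4]
  exact Subtype.ext (by rw [hσK]; exact ha)

/-! ### the subgroup `K ∪ K w` -/

section Ext

variable {Γ : Type*} [Group Γ]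

/-- the subgroup `K ∪ K w`, for an element `w` normalising `K` with `w * w ∈ K` -/
def extSubgroup (K : Subgroup Γ) (w : Γ) (hw2 : w * w ∈ K) (hwK : ∀ k ∈ K, w * k * w⁻¹ ∈ K) : Subgroup Γ where
  carrier := {g | g ∈ K ∨ g * w⁻¹ ∈ K}
  one_mem' := Or.inl K.one_mem
  mul_mem' := by
    rintro a b (ha | ha) (hb | hb)
    · exact Or.inl (K.mul_mem ha hb)
    · right
      have : a * b * w⁻¹ = a * (b * w⁻¹) := by group
      rw [this]
      exact K.mul_mem ha hb
    · right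
      have : a * b * w⁻¹ = (a * w⁻¹) * (w * b * w⁻¹) := by group
      rw [this]
      exact K.mul_mem ha (hwK b hb)
    · left
      have : a * b = (a * w⁻¹) * (w * (b * w⁻¹) * w⁻¹) * (w * w) := by group
      rw [this]
      exact K.mul_mem (K.mul_mem ha (hwK _ hb)) hw2
  inv_mem' := by
    rintro a (ha | ha)
    · exact Or.inl (K.inv_mem ha)
    · right
      -- `a = k w`, `a⁻¹ w⁻¹ = w⁻¹ k⁻¹ w⁻¹ = (w (w w)⁻¹) k⁻¹ (w⁻¹) ...`
      have h1 : w * ((w * w)⁻¹ * (a * w⁻¹)⁻¹) * w⁻¹ ∈ K :=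
        hwK _ (K.mul_mem (K.inv_mem hw2) (K.inv_mem ha))
      have : a⁻¹ * w⁻¹ = w * ((w * w)⁻¹ * (a * w⁻¹)⁻¹) * w⁻¹ := by group
      rw [this]
      exact h1

theorem mem_extSubgroup (K : Subgroup Γ) (w : Γ) (hw2 : w * w ∈ K) (hwK : ∀ k ∈ K, w * k * w⁻¹ ∈ K) (g : Γ) :
    g ∈ extSubgroup K w hw2 hwK ↔ g ∈ K ∨ g * w⁻¹ ∈ K := Iff.rfl

theorem le_extSubgroup (K : Subgroup Γ) (w : Γ) (hw2 : w * w ∈ K) (hwK : ∀ k ∈ K, w * k * w⁻¹ ∈ K) :
    K ≤ extSubgroup K w hw2 hwK := fun _ hg => Or.inl hg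

theorem self_mem_extSubgroup (K : Subgroup Γ) (w : Γ) (hw2 : w * w ∈ K) (hwK : ∀ k ∈ K, w * k * w⁻¹ ∈ K) :
    w ∈ extSubgroup K w hw2 hwK := Or.inr (by rw [mul_inv_cancel]; exact K.one_mem)

/-- `K ∪ K w` meets the kernel of `σ` trivially if `K` does and `σ w ∉ σ K` -/
theorem extSubgroup_inf_ker {G : Type*} [Group G] (σ : Γ →* G) (K : Subgroup Γ) (w : Γ) (hw2 : w * w ∈ K)
    (hwK : ∀ k ∈ K, w * k * w⁻¹ ∈ K) (hK : ∀ a ∈ σ.ker, a ∈ K → a = 1) (hw : σ w ∉ K.map σ) :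
    ∀ a ∈ σ.ker, a ∈ extSubgroup K w hw2 hwK → a = 1 := by
  rintro a ha (h | h)
  · exact hK a ha h
  · exfalso
    apply hw
    refine ⟨(a * w⁻¹)⁻¹, K.inv_mem h, ?_⟩
    rw [map_inv, map_mul, map_inv, MonoidHom.mem_ker.mp ha, one_mul, inv_inv]

/-- two elements of a subgroup meeting the kernel trivially are equal as soon as their images are -/
theorem eq_of_map_eq {G : Type*} [Group G] (σ : Γ →* G) (S : Subgroup Γ)
    (hS : ∀ a ∈ σ.ker, a ∈ S → a = 1) {g h : Γ} (hg : g ∈ S) (hh : h ∈ S) (e : σ g = σ h) : g = h := by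
  have h1 : g * h⁻¹ ∈ σ.ker := by
    rw [MonoidHom.mem_ker, map_mul, map_inv, e, mul_inv_cancel]
  have h2 := hS _ h1 (S.mul_mem hg (S.inv_mem hh))
  calc g = g * h⁻¹ * h := by group
    _ = h := by rw [h2, one_mul]

/-- conjugation with an element normalising `V` normalises `⁅V, V⁆` -/
theorem conj_mem_commutator (V : Subgroup Γ) (w : Γ) (hw : ∀ v ∈ V, w * v * w⁻¹ ∈ V) :
    ∀ k ∈ ⁅V, V⁆, w * k * w⁻¹ ∈ ⁅V, V⁆ := by
  intro k hk
  have h1 : (⁅V, V⁆).map (MulAut.conj w).toMonoidHom ≤ ⁅V, V⁆ := by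
    rw [Subgroup.map_commutator]
    apply Subgroup.commutator_mono <;>
    · rintro _ ⟨v, hv, rfl⟩
      exact hw v hv
  exact h1 ⟨k, hk, rfl⟩

end Ext

end Cfsg.Agent.Lib.Helper21.HNSchur
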