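import Cfsg.Agent.Lib.Helper21.HNSchur.LiftA
import Cfsg.Agent.Lib.Helper29.SchurCyclicSylow
import Cfsg.Agent.Lib.Helper13.SL2FiveCover

set_option autoImplicit false

/-!
# Central extensions: unique lifts, and a quotient of `Alt(5)` has no odd multiplier

* `eq_of_pow_eq_one`: lifts of the same element whose `n`-th powers are trivial are equal, `n` prime to the
  exponent of the kernel.
* `cube_eq_one_of_odd`: for elements `s, z', t'` of a central extension with kernel of odd prime exponent which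
  satisfy `s² = z'² = 1`, `[s, z'] = 1`, `t'^s = t'⁻¹`, `t'⁵ = 1` and whose images `z, t` satisfy the relations of
  `Alt(5)`, with the image of `s` in `⟨z, t⟩`: `(z' t')³ = 1`.
-/

namespace Cfsg.Agent.Lib.Helper21.HNSchur

universe u

open Subgroup
open scoped commutatorElement
open Cfsg.Agent.Lib.Helper28.SchurFox

section Basic

variable {Γ G : Type*} [Group Γ] [Group G] (σ : Γ →* G)

theorem ker_comm (hc : σ.ker ≤ center Γ) {a : Γ} (ha : a ∈ σ.ker) (g : Γ) : g * a = a * g :=
  mem_center_iff.mp (hc ha) g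

theorem mul_pow_ker (hc : σ.ker ≤ center Γ) {a : Γ} (ha : a ∈ σ.ker) (g : Γ) (n : ℕ) :
    (g * a) ^ n = g ^ n * a ^ n :=
  (Commute.mul_pow (show Commute g a from ker_comm σ hc ha g) n)

/-- lifts of the same element whose `n`-th powers are trivial are equal -/
theorem eq_of_pow_eq_one (hc : σ.ker ≤ center Γ) (p : ℕ) (hexp : ∀ a ∈ σ.ker, a ^ p = 1) (n : ℕ)
    (hcop : Nat.Coprime n p) {g h : Γ} (e : σ g = σ h) (hg : g ^ n = 1) (hh : h ^ n = 1) : g = h := by
  have hk : g⁻¹ * h ∈ σ.ker := by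
    rw [MonoidHom.mem_ker, map_mul, map_inv, e, inv_mul_cancel]
  have h1 : h = g * (g⁻¹ * h) := by group
  have h2 : (g⁻¹ * h) ^ n = 1 := by
    have := mul_pow_ker σ hc hk g n
    rw [← h1, hh, hg, one_mul] at this
    exact this.symm
  have h3 : g⁻¹ * h = 1 := (pow_eq_one_iff_of_coprime hcop).mp ⟨h2, hexp _ hk⟩
  rw [h1, h3, mul_one]

/-- the kernel is trivial if the exponent `p` does not divide the order of the quotient -/
theorem ker_eq_bot_of_not_dvd' {Γ G : Type*} [Group Γ] [Group G] [Finite G] (σ : Γ →* G)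
    (hσ : Cfsg.IsStemExtension σ) (p : ℕ) (hp : p.Prime) (hexp : ∀ a ∈ σ.ker, a ^ p = 1)
    (hnd : ¬ p ∣ Nat.card G) : σ.ker = ⊥ := by
  have hi : σ.ker.index = Nat.card G := by
    rw [Subgroup.index_ker, MonoidHom.range_eq_top.mpr hσ.1, Subgroup.card_top]
  haveI : σ.ker.FiniteIndex := ⟨by rw [hi]; exact Nat.card_pos.ne'⟩
  refine ker_eq_bot_of_transfer σ hσ p hexp σ.ker ?_ ?_
  · rw [hi]
    exact ((Nat.Prime.coprime_iff_not_dvd hp).mpr hnd).symm
  · intro a _ hac
    have hbot : ⁅σ.ker, σ.ker⁆ = ⊥ := by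
      rw [Subgroup.commutator_eq_bot_iff_le_centralizer]
      intro x hx
      rw [mem_centralizer_iff]
      intro y _
      exact mem_center_iff.mp (hσ.2.1 hx) y
    rw [hbot, mem_bot] at hac
    exact hac

end Basic

/-- a stem extension of a group of order dividing 60 with kernel of exponent `3` or `5` is trivial -/
theorem ker_eq_bot_of_dvd_sixty {Γ Q : Type*} [Group Γ] [Group Q] [Finite Q] (σ : Γ →* Q)
    (hσ : Cfsg.IsStemExtension σ) (p : ℕ) (hp : p = 3 ∨ p = 5) (hexp : ∀ a ∈ σ.ker, a ^ p = 1)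
    (hQ : Nat.card Q ∣ 60) : σ.ker = ⊥ := by
  have hpp : p.Prime := by rcases hp with rfl | rfl <;> norm_num
  by_cases hd : p ∣ Nat.card Q
  · haveI : Fact p.Prime := ⟨hpp⟩
    refine Cfsg.Agent.Lib.Helper29.SchurCyclicSylow.ker_eq_bot_of_prime_once σ hσ p hexp hd ?_
    obtain ⟨m, hm⟩ := hd
    obtain ⟨k, hk⟩ := hQ
    rw [hm, Nat.mul_div_cancel_left _ hpp.pos]
    rw [hm] at hk
    rcases hp with rfl | rfl
    · have : 20 = m * k := by
        rw [mul_assoc] at hk
        omega
      have hm20 : m ∣ 20 := ⟨k, this⟩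
      exact Nat.Coprime.coprime_dvd_left hm20 (by norm_num)
    · have : 12 = m * k := by
        rw [mul_assoc] at hk
        omega
      have hm12 : m ∣ 12 := ⟨k, this⟩
      exact Nat.Coprime.coprime_dvd_left hm12 (by norm_num)
  · exact ker_eq_bot_of_not_dvd' σ hσ p hpp hexp hd

end Cfsg.Agent.Lib.Helper21.HNSchur
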