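import Cfsg.Agent.Lib.Helper21.HNSchur.LiftB

set_option autoImplicit false
set_option linter.style.haveILetI false

/-!
# A quotient of `Alt(5)` inside a central extension with kernel of exponent `3` or `5`
-/

namespace Cfsg.Agent.Lib.Helper21.HNSchur

open Subgroup
open scoped commutatorElement
open Cfsg.Agent.Lib.Helper28.SchurFox

/-- for elements `s, z', t'` of a central extension with kernel of exponent `3` or `5` which satisfy
`s² = z'² = 1`, `[s, z'] = 1`, `t'^s = t'⁴`, `t'⁵ = 1`, whose images `z, t` satisfy `(z t)³ = 1`, the image of `s`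
lying in `⟨z, t⟩`: `(z' t')³ = 1` -/
theorem cube_eq_one_of_odd {Γ G : Type*} [Group Γ] [Group G] (σ : Γ →* G) (hc : σ.ker ≤ center Γ)
    (p : ℕ) (hp : p = 3 ∨ p = 5) (hexp : ∀ a ∈ σ.ker, a ^ p = 1)
    (s z' t' : Γ) (hs2 : s * s = 1) (hz2 : z' * z' = 1)
    (hst : s⁻¹ * t' * s = t' ^ 4) (ht5 : t' ^ 5 = 1)
    (hmem : σ s ∈ closure ({σ z', σ t'} : Set G)) (hzt : (σ z' * σ t') ^ 3 = 1) :
    (z' * t') ^ 3 = 1 := by
  have hpp : p.Prime := by rcases hp with rfl | rfl <;> norm_num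
  have hp2 : Nat.Coprime 2 p := by rcases hp with rfl | rfl <;> norm_num
  have hzz : σ z' * σ z' = 1 := by rw [← map_mul, hz2, map_one]
  have htt : σ t' ^ 5 = 1 := by rw [← map_pow, ht5, map_one]
  have hzinv : (σ z')⁻¹ = σ z' := inv_eq_of_mul_eq_one_right hzz
  -- the subgroups
  let Γ' : Subgroup Γ := closure {s, z', t'}
  have hsΓ : s ∈ Γ' := subset_closure (by simp)
  have hzΓ : z' ∈ Γ' := subset_closure (by simp)
  have htΓ : t' ∈ Γ' := subset_closure (by simp)
  -- the image is a quotient of `Alt(5)`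
  have ha : ((σ z' * σ t')⁻¹) ^ 3 = 1 := by rw [inv_pow, hzt, inv_one]
  have hab : ((σ z' * σ t')⁻¹ * σ t') ^ 2 = 1 := by
    have e1 : (σ z' * σ t')⁻¹ * σ t' = (σ t')⁻¹ * (σ z')⁻¹ * σ t' := by group
    rw [e1, hzinv, pow_two]
    calc (σ t')⁻¹ * σ z' * σ t' * ((σ t')⁻¹ * σ z' * σ t') = (σ t')⁻¹ * (σ z' * σ z') * σ t' := by group
      _ = 1 := by rw [hzz]; group
  obtain ⟨θ, hθ⟩ := Cfsg.Agent.Lib.Helper13.exists_hom_alt_five ((σ z' * σ t')⁻¹) (σ t') ha htt hab
  have hcl : closure ({(σ z' * σ t')⁻¹, σ t'} : Set G) = closure ({σ z', σ t'} : Set G) := by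
    apply le_antisymm
    · rw [closure_le]
      rintro g (rfl | rfl)
      · exact inv_mem (mul_mem (subset_closure (by simp)) (subset_closure (by simp)))
      · exact subset_closure (by simp)
    · rw [closure_le]
      rintro g (rfl | rfl)
      · have e : σ z' = ((σ z' * σ t')⁻¹)⁻¹ * (σ t')⁻¹ := by group
        rw [SetLike.mem_coe, e]
        exact mul_mem (inv_mem (subset_closure (by simp))) (inv_mem (subset_closure (by simp)))
      · exact subset_closure (by simp)
  have hQeq : Γ'.map σ = θ.range := by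
    rw [hθ, hcl]
    show (closure {s, z', t'}).map σ = _
    rw [MonoidHom.map_closure]
    apply le_antisymm
    · rw [closure_le]
      rintro g ⟨g0, hg0, rfl⟩
      rcases hg0 with rfl | rfl | rfl
      · exact hmem
      · exact subset_closure (by simp)
      · exact subset_closure (by simp)
    · apply Subgroup.closure_mono
      rintro g (rfl | rfl)
      · exact ⟨z', by simp, rfl⟩
      · exact ⟨t', by simp, rfl⟩
  have hcard : Nat.card ↥(Γ'.map σ) ∣ 60 := by
    rw [hQeq, ← Cfsg.Agent.Lib.Helper13.card_alt_five]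
    exact Subgroup.card_dvd_of_surjective θ.rangeRestrict θ.rangeRestrict_surjective
  haveI : Finite ↥(Γ'.map σ) := Nat.finite_of_card_ne_zero (by
    intro h0
    rw [h0] at hcard
    omega)
  -- the restriction of `σ`
  let σ' : ↥Γ' →* ↥(Γ'.map σ) := σ.subgroupMap Γ'
  have hσ' : ∀ g : ↥Γ', ((σ' g : ↥(Γ'.map σ)) : G) = σ (g : Γ) := fun g => rfl
  have hker : ∀ g : ↥Γ', g ∈ σ'.ker → (g : Γ) ∈ σ.ker := by
    intro g hg
    rw [MonoidHom.mem_ker] at hg ⊢
    rw [← hσ', hg]
    rfl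
  -- squares are trivial in the abelianisation
  have hsq : ∀ g : ↥Γ', (Abelianization.of g) ^ 2 = 1 := by
    have key : ∀ g : Γ, ∀ hg : g ∈ Γ', (Abelianization.of (⟨g, hg⟩ : ↥Γ')) ^ 2 = 1 := by
      intro g hg
      induction hg using Subgroup.closure_induction with
      | mem g hg =>
        rcases hg with rfl | rfl | rfl
        · rw [pow_two, ← map_mul]
          have : (⟨g, hsΓ⟩ : ↥Γ') * ⟨g, hsΓ⟩ = 1 := Subtype.ext hs2
          rw [this, map_one]
        · rw [pow_two, ← map_mul]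
          have : (⟨g, hzΓ⟩ : ↥Γ') * ⟨g, hzΓ⟩ = 1 := Subtype.ext hz2
          rw [this, map_one]
        · -- the image of `t'` is trivial
          have h1 : (⟨s, hsΓ⟩ : ↥Γ')⁻¹ * ⟨g, htΓ⟩ * ⟨s, hsΓ⟩ = (⟨g, htΓ⟩ : ↥Γ') ^ 4 := Subtype.ext hst
          have h2 := congrArg (Abelianization.of (G := ↥Γ')) h1
          rw [map_mul, map_mul, map_inv, map_pow] at h2
          have h3 : Abelianization.of (⟨g, htΓ⟩ : ↥Γ') = (Abelianization.of (⟨g, htΓ⟩ : ↥Γ')) ^ 4 := by
            rw [← h2, mul_comm ((Abelianization.of (⟨s, hsΓ⟩ : ↥Γ'))⁻¹), mul_assoc, inv_mul_cancel, mul_one]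
          have h4 : (Abelianization.of (⟨g, htΓ⟩ : ↥Γ')) ^ 3 = 1 := by
            have : (Abelianization.of (⟨g, htΓ⟩ : ↥Γ')) ^ 4 =
                Abelianization.of (⟨g, htΓ⟩ : ↥Γ') * (Abelianization.of (⟨g, htΓ⟩ : ↥Γ')) ^ 3 := by
              rw [← pow_succ']
            rw [this] at h3
            exact (mul_eq_left.mp h3.symm)
          have h5 : (Abelianization.of (⟨g, htΓ⟩ : ↥Γ')) ^ 5 = 1 := by
            rw [← map_pow]
            have : (⟨g, htΓ⟩ : ↥Γ') ^ 5 = 1 := Subtype.ext ht5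
            rw [this, map_one]
          have h6 : Abelianization.of (⟨g, htΓ⟩ : ↥Γ') = 1 :=
            (pow_eq_one_iff_of_coprime (by norm_num : Nat.Coprime 3 5)).mp ⟨h4, h5⟩
          rw [h6, one_pow]
      | one =>
        have : (⟨1, Γ'.one_mem⟩ : ↥Γ') = 1 := rfl
        rw [this, map_one, one_pow]
      | mul a b ha hb iha ihb =>
        have : (⟨a * b, Γ'.mul_mem ha hb⟩ : ↥Γ') = ⟨a, ha⟩ * ⟨b, hb⟩ := rfl
        rw [this, map_mul, mul_pow, iha, ihb, one_mul]
      | inv a ha iha =>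
        have : (⟨a⁻¹, Γ'.inv_mem ha⟩ : ↥Γ') = (⟨a, ha⟩ : ↥Γ')⁻¹ := rfl
        rw [this, map_inv, inv_pow, iha, inv_one]
    intro g
    exact key g.1 g.2
  have hstem : Cfsg.IsStemExtension σ' := by
    refine ⟨σ.subgroupMap_surjective Γ', ?_, ?_⟩
    · intro g hg
      rw [mem_center_iff]
      intro h
      exact Subtype.ext (ker_comm σ hc (hker g hg) (h : Γ))
    · intro g hg
      rw [← Abelianization.ker_of, MonoidHom.mem_ker]
      have h1 : (Abelianization.of g) ^ p = 1 := by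
        rw [← map_pow]
        have : g ^ p = 1 := Subtype.ext (by
          show (g : Γ) ^ p = 1
          exact hexp _ (hker g hg))
        rw [this, map_one]
      exact (pow_eq_one_iff_of_coprime hp2).mp ⟨hsq g, h1⟩
  have hexp' : ∀ a ∈ σ'.ker, a ^ p = 1 := by
    intro a ha
    exact Subtype.ext (by
      show (a : Γ) ^ p = 1
      exact hexp _ (hker a ha))
  have hbot := ker_eq_bot_of_dvd_sixty σ' hstem p hp hexp' hcard
  have heΓ : (z' * t') ^ 3 ∈ Γ' := pow_mem (mul_mem hzΓ htΓ) 3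
  have hek : (⟨(z' * t') ^ 3, heΓ⟩ : ↥Γ') ∈ σ'.ker := by
    rw [MonoidHom.mem_ker]
    apply Subtype.ext
    rw [hσ']
    show σ ((z' * t') ^ 3) = 1
    rw [map_pow, map_mul, hzt]
  rw [hbot, mem_bot] at hek
  exact congrArg Subtype.val hek

end Cfsg.Agent.Lib.Helper21.HNSchur
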