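import Cfsg.Agent.Lib.Helper21.HNSchur.LiftC

set_option autoImplicit false
set_option linter.style.haveILetI false

/-!
# Normalised lifts of the generators `z` and `t`
-/

namespace Cfsg.Agent.Lib.Helper21.HNSchur

open Subgroup
open scoped commutatorElement

section

variable {Γ G : Type*} [Group Γ] [Group G] (σ : Γ →* G)

/-- a lift of `t` with trivial fifth power, for kernels of exponent `2` or `3` -/
theorem exists_lift_pow_five (hs : Function.Surjective σ) (hc : σ.ker ≤ center Γ) (p : ℕ)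
    (hp : p = 2 ∨ p = 3) (hexp : ∀ a ∈ σ.ker, a ^ p = 1) (t : G) (ht5 : t ^ 5 = 1) :
    ∃ t' : Γ, σ t' = t ∧ t' ^ 5 = 1 := by
  obtain ⟨t0, ht0⟩ := hs t
  have hd : t0 ^ 5 ∈ σ.ker := by rw [MonoidHom.mem_ker, map_pow, ht0, ht5]
  have hd6 : (t0 ^ 5) ^ 6 = 1 := by
    rcases hp with rfl | rfl
    · rw [show 6 = 2 * 3 by norm_num, pow_mul, hexp _ hd, one_pow]
    · rw [show 6 = 3 * 2 by norm_num, pow_mul, hexp _ hd, one_pow]
  refine ⟨t0 * t0 ^ 5, ?_, ?_⟩
  · rw [map_mul, MonoidHom.mem_ker.mp hd, mul_one, ht0]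
  · rw [mul_pow_ker σ hc hd, ← pow_succ']
    exact hd6

/-- a lift of `z` with trivial square -/
theorem exists_lift_sq (hs : Function.Surjective σ) (hc : σ.ker ≤ center Γ) (p : ℕ)
    (hp : p = 2 ∨ p = 3 ∨ p = 5) (hexp : ∀ a ∈ σ.ker, a ^ p = 1)
    (x z t : G) (hz2 : z * z = 1) (ht5 : t ^ 5 = 1)
    (hconj : t⁻¹ * z * t ^ 2 * z * (t⁻¹) ^ 2 * z * t = x * x)
    (x' : Γ) (hx' : σ x' = x) (hx4 : x' * x' * (x' * x') = 1) :
    ∃ z' : Γ, σ z' = z ∧ z' * z' = 1 := by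
  obtain ⟨z0, hz0⟩ := hs z
  have hck : z0 * z0 ∈ σ.ker := by rw [MonoidHom.mem_ker, map_mul, hz0, hz2]
  rcases hp with rfl | rfl | rfl
  · -- `p = 2`: the square of the lift is trivial, because `z` is conjugate to `x * x`
    refine ⟨z0, hz0, ?_⟩
    obtain ⟨t1, ht1, ht15⟩ := exists_lift_pow_five σ hs hc 2 (Or.inl rfl) hexp t ht5
    set c := z0 * z0 with hcdef
    have hcc : ∀ g : Γ, g * c = c * g := fun g => ker_comm σ hc hck g
    have hc2 : c * c = 1 := by rw [← pow_two]; exact hexp _ hck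
    set u := t1⁻¹ * z0 * t1 ^ 2 * z0 * (t1⁻¹) ^ 2 * z0 * t1 with hu
    have hσu : σ u = x * x := by
      rw [hu]
      simp only [map_mul, map_inv, map_pow, ht1, hz0]
      exact hconj
    have hc0 : (x' * x')⁻¹ * u ∈ σ.ker := by
      rw [MonoidHom.mem_ker, map_mul, map_inv, map_mul, hx', hσu, inv_mul_cancel]
    set c0 := (x' * x')⁻¹ * u with hc0def
    have hc0c : ∀ g : Γ, g * c0 = c0 * g := fun g => ker_comm σ hc hc0 g
    have hc02 : c0 * c0 = 1 := by rw [← pow_two]; exact hexp _ hc0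
    have hu' : u = x' * x' * c0 := by rw [hc0def]; group
    have huu : u * u = 1 := by
      rw [hu']
      calc x' * x' * c0 * (x' * x' * c0) = x' * x' * (c0 * (x' * x')) * c0 := by group
        _ = x' * x' * ((x' * x') * c0) * c0 := by rw [← hc0c (x' * x')]
        _ = (x' * x' * (x' * x')) * (c0 * c0) := by group
        _ = 1 := by rw [hx4, hc02, one_mul]
    -- `u = g⁻¹ z0 g * c`
    have hz0inv : z0⁻¹ = z0 * c⁻¹ := by
      rw [hcdef]; group
    set g := (t1⁻¹) ^ 2 * z0 * t1 with hg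
    have hconj' : g⁻¹ * z0 * g = u * c⁻¹ := by
      have hcinv : ∀ h : Γ, h * c⁻¹ = c⁻¹ * h := by
        intro h
        have := hcc h
        calc h * c⁻¹ = c⁻¹ * (c * h) * c⁻¹ := by group
          _ = c⁻¹ * (h * c) * c⁻¹ := by rw [this]
          _ = c⁻¹ * h := by group
      have e1 : g⁻¹ = t1⁻¹ * z0⁻¹ * t1 ^ 2 := by rw [hg]; group
      rw [e1, hz0inv, hg, hu]
      calc t1⁻¹ * (z0 * c⁻¹) * t1 ^ 2 * z0 * ((t1⁻¹) ^ 2 * z0 * t1)
          = t1⁻¹ * z0 * (c⁻¹ * (t1 ^ 2 * z0 * (t1⁻¹) ^ 2 * z0 * t1)) := by group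
        _ = t1⁻¹ * z0 * ((t1 ^ 2 * z0 * (t1⁻¹) ^ 2 * z0 * t1) * c⁻¹) := by rw [hcinv]
        _ = t1⁻¹ * z0 * t1 ^ 2 * z0 * (t1⁻¹) ^ 2 * z0 * t1 * c⁻¹ := by group
    have h1 : (g⁻¹ * z0 * g) * (g⁻¹ * z0 * g) = c := by
      calc (g⁻¹ * z0 * g) * (g⁻¹ * z0 * g) = g⁻¹ * (z0 * z0) * g := by group
        _ = g⁻¹ * (c * g) := by rw [← hcdef]; group
        _ = g⁻¹ * (g * c) := by rw [hcc]
        _ = c := by group
    have hcinv1 : c⁻¹ = c := inv_eq_of_mul_eq_one_right hc2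
    rw [hconj', hcinv1] at h1
    have h2 : u * c * (u * c) = 1 := by
      calc u * c * (u * c) = u * (c * u) * c := by group
        _ = u * (u * c) * c := by rw [← hcc u]
        _ = (u * u) * (c * c) := by group
        _ = 1 := by rw [huu, hc2, one_mul]
    rw [h2] at h1
    exact h1.symm
  · -- `p = 3`
    have hcc : ∀ g : Γ, g * (z0 * z0) = (z0 * z0) * g := fun g => ker_comm σ hc hck g
    have hc3 : (z0 * z0) * (z0 * z0) * (z0 * z0) = 1 := by
      have := hexp _ hck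
      rwa [pow_succ, pow_two] at this
    refine ⟨z0 * (z0 * z0), ?_, ?_⟩
    · rw [map_mul, MonoidHom.mem_ker.mp hck, mul_one, hz0]
    · calc z0 * (z0 * z0) * (z0 * (z0 * z0)) = (z0 * z0) * (z0 * z0) * (z0 * z0) := by group
        _ = 1 := hc3
  · -- `p = 5`
    have hcc : ∀ g : Γ, g * (z0 * z0) = (z0 * z0) * g := fun g => ker_comm σ hc hck g
    have hc5 : (z0 * z0) * (z0 * z0) * (z0 * z0) * (z0 * z0) * (z0 * z0) = 1 := by
      have := hexp _ hck
      rwa [pow_succ, pow_succ, pow_succ, pow_two] at this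
    refine ⟨z0 * ((z0 * z0) * (z0 * z0)), ?_, ?_⟩
    · rw [map_mul, map_mul, MonoidHom.mem_ker.mp hck, mul_one, mul_one, hz0]
    · calc z0 * ((z0 * z0) * (z0 * z0)) * (z0 * ((z0 * z0) * (z0 * z0)))
          = (z0 * z0) * (z0 * z0) * (z0 * z0) * (z0 * z0) * (z0 * z0) := by group
        _ = 1 := hc5

end

end Cfsg.Agent.Lib.Helper21.HNSchur
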