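import Cfsg.Agent.Lib.Helper21.HNSchur.LiftD

set_option autoImplicit false
set_option linter.style.haveILetI false

/-!
# The normalised lift of the generator `t`

Given lifts `x', y'` of `x, y` lying in a subgroup which meets the kernel trivially, there is a lift `t'` of `t` with
`t'⁵ = 1`, `x'⁻¹ t' x' t'² = 1` and `t'⁻¹ y'⁻¹ t' y' = 1`.
-/

namespace Cfsg.Agent.Lib.Helper21.HNSchur

open Subgroup
open scoped commutatorElement

section

variable {Γ G : Type*} [Group Γ] [Group G] (σ : Γ →* G)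

theorem conj_pow' (a b : Γ) (n : ℕ) : (a⁻¹ * b * a) ^ n = a⁻¹ * b ^ n * a := by
  induction n with
  | zero => simp
  | succ n ih => rw [pow_succ, ih, pow_succ]; group

theorem exists_lift_t (hs : Function.Surjective σ) (hc : σ.ker ≤ center Γ) (p : ℕ)
    (hp : p = 2 ∨ p = 3 ∨ p = 5) (hexp : ∀ a ∈ σ.ker, a ^ p = 1)
    (x y t : G) (hy6 : y ^ 6 = 1) (ht5 : t ^ 5 = 1)
    (htx : x⁻¹ * t * x * t ^ 2 = 1) (hty : t⁻¹ * y⁻¹ * t * y = 1)
    (S : Subgroup Γ) (hS : ∀ a ∈ σ.ker, a ∈ S → a = 1)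
    (x' y' : Γ) (hx' : σ x' = x) (hy' : σ y' = y) (hyS : y' ∈ S) :
    ∃ t' : Γ, σ t' = t ∧ t' ^ 5 = 1 ∧ x'⁻¹ * t' * x' * t' ^ 2 = 1 ∧ t'⁻¹ * y'⁻¹ * t' * y' = 1 := by
  have hy'6 : y' ^ 6 = 1 := by
    apply hS _ _ (S.pow_mem hyS 6)
    rw [MonoidHom.mem_ker, map_pow, hy', hy6]
  have htx' : x⁻¹ * t * x = (t ^ 2)⁻¹ := eq_inv_of_mul_eq_one_left htx
  have hty' : y⁻¹ * t * y = t := by
    have : t⁻¹ * (y⁻¹ * t * y) = 1 := by rw [← hty]; group
    calc y⁻¹ * t * y = t * (t⁻¹ * (y⁻¹ * t * y)) := by group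
      _ = t := by rw [this, mul_one]
  have h25 : (p = 2 ∨ p = 3) ∨ p = 5 := by
    rcases hp with h | h | h
    · exact Or.inl (Or.inl h)
    · exact Or.inl (Or.inr h)
    · exact Or.inr h
  rcases h25 with h23 | rfl
  · -- the lift of order five is unique
    obtain ⟨t', ht', ht'5⟩ := exists_lift_pow_five σ hs hc p h23 hexp t ht5
    have hcop : Nat.Coprime 5 p := by rcases h23 with rfl | rfl <;> norm_num
    refine ⟨t', ht', ht'5, ?_, ?_⟩
    · have e : x'⁻¹ * t' * x' = (t' ^ 2)⁻¹ := by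
        apply eq_of_pow_eq_one σ hc p hexp 5 hcop
        · rw [map_mul, map_mul, map_inv, map_inv, map_pow, hx', ht', htx']
        · rw [conj_pow', ht'5]; group
        · rw [inv_pow, ← pow_mul, mul_comm, pow_mul, ht'5, one_pow, inv_one]
      rw [e, inv_mul_cancel]
    · have e : y'⁻¹ * t' * y' = t' := by
        apply eq_of_pow_eq_one σ hc p hexp 5 hcop
        · rw [map_mul, map_mul, map_inv, hy', ht', hty']
        · rw [conj_pow', ht'5]; group
        · exact ht'5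
      calc t'⁻¹ * y'⁻¹ * t' * y' = t'⁻¹ * (y'⁻¹ * t' * y') := by group
        _ = 1 := by rw [e, inv_mul_cancel]
  · -- `p = 5`
    obtain ⟨t0, ht0⟩ := hs t
    have hck : x'⁻¹ * t0 * x' * t0 ^ 2 ∈ σ.ker := by
      rw [MonoidHom.mem_ker, map_mul, map_mul, map_mul, map_inv, map_pow, hx', ht0, htx]
    have hfk : t0 ^ 5 ∈ σ.ker := by rw [MonoidHom.mem_ker, map_pow, ht0, ht5]
    set c := x'⁻¹ * t0 * x' * t0 ^ 2 with hcdef
    set f := t0 ^ 5 with hfdef
    have hcc : ∀ g : Γ, g * c = c * g := fun g => ker_comm σ hc hck g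
    have hfc : ∀ g : Γ, g * f = f * g := fun g => ker_comm σ hc hfk g
    have hc5 : c ^ 5 = 1 := hexp _ hck
    have hf5 : f ^ 5 = 1 := hexp _ hfk
    -- `f = 1`
    have e1 : x'⁻¹ * t0 * x' = c * (t0 ^ 2)⁻¹ := by rw [hcdef]; group
    have e2 : (x'⁻¹ * t0 * x') ^ 5 = f := by
      rw [conj_pow', ← hfdef]
      calc x'⁻¹ * f * x' = x'⁻¹ * (f * x') := by group
        _ = x'⁻¹ * (x' * f) := by rw [hfc]
        _ = f := by group
    have e3 : (c * (t0 ^ 2)⁻¹) ^ 5 = (f ^ 2)⁻¹ := by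
      have hcm : Commute c ((t0 ^ 2)⁻¹) := (hcc _).symm
      rw [hcm.mul_pow, hc5, one_mul, inv_pow, ← pow_mul, mul_comm, pow_mul]
    have hf3 : f ^ 3 = 1 := by
      have h1 : f = (f ^ 2)⁻¹ := by
        calc f = (x'⁻¹ * t0 * x') ^ 5 := e2.symm
          _ = (c * (t0 ^ 2)⁻¹) ^ 5 := by rw [e1]
          _ = (f ^ 2)⁻¹ := e3
      calc f ^ 3 = f * f ^ 2 := pow_succ' f 2
        _ = (f ^ 2)⁻¹ * f ^ 2 := congrArg (· * f ^ 2) h1
        _ = 1 := inv_mul_cancel _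
    have hf1 : f = 1 := (pow_eq_one_iff_of_coprime (by norm_num : Nat.Coprime 3 5)).mp ⟨hf3, hf5⟩
    -- the corrected lift
    have hc3k : c ^ 3 ∈ σ.ker := pow_mem hck 3
    have hc3c : ∀ g : Γ, g * c ^ 3 = c ^ 3 * g := fun g => ker_comm σ hc hc3k g
    have ht'5 : (t0 * c ^ 3) ^ 5 = 1 := by
      rw [mul_pow_ker σ hc hc3k, ← hfdef, hf1, one_mul, ← pow_mul, mul_comm, pow_mul, hc5, one_pow]
    have hrel12 : x'⁻¹ * (t0 * c ^ 3) * x' * (t0 * c ^ 3) ^ 2 = 1 := by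
      have hsq : (t0 * c ^ 3) ^ 2 = t0 ^ 2 * (c ^ 3) ^ 2 := mul_pow_ker σ hc hc3k t0 2
      rw [hsq]
      calc x'⁻¹ * (t0 * c ^ 3) * x' * (t0 ^ 2 * (c ^ 3) ^ 2)
          = x'⁻¹ * t0 * (c ^ 3 * x') * t0 ^ 2 * (c ^ 3) ^ 2 := by group
        _ = x'⁻¹ * t0 * (x' * c ^ 3) * t0 ^ 2 * (c ^ 3) ^ 2 := by rw [← hc3c x']
        _ = x'⁻¹ * t0 * x' * (c ^ 3 * t0 ^ 2) * (c ^ 3) ^ 2 := by group
        _ = x'⁻¹ * t0 * x' * (t0 ^ 2 * c ^ 3) * (c ^ 3) ^ 2 := by rw [← hc3c (t0 ^ 2)]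
        _ = (x'⁻¹ * t0 * x' * t0 ^ 2) * (c ^ 3 * (c ^ 3) ^ 2) := by group
        _ = c * (c ^ 3 * (c ^ 3) ^ 2) := by rw [← hcdef]
        _ = (c ^ 5) ^ 2 := by group
        _ = 1 := by rw [hc5, one_pow]
    refine ⟨t0 * c ^ 3, ?_, ht'5, hrel12, ?_⟩
    · rw [map_mul, map_pow, MonoidHom.mem_ker.mp hck, one_pow, mul_one, ht0]
    · set t' := t0 * c ^ 3 with ht'def
      have ht' : σ t' = t := by
        rw [ht'def, map_mul, map_pow, MonoidHom.mem_ker.mp hck, one_pow, mul_one, ht0]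
      have hdk : t'⁻¹ * y'⁻¹ * t' * y' ∈ σ.ker := by
        rw [MonoidHom.mem_ker, map_mul, map_mul, map_mul, map_inv, map_inv, hy', ht', hty]
      set d := t'⁻¹ * y'⁻¹ * t' * y' with hddef
      have hdc : ∀ g : Γ, g * d = d * g := fun g => ker_comm σ hc hdk g
      have hd5 : d ^ 5 = 1 := hexp _ hdk
      have e4 : y'⁻¹ * t' * y' = t' * d := by rw [hddef]; group
      have key : ∀ k : ℕ, (y' ^ k)⁻¹ * t' * y' ^ k = t' * d ^ k := by
        intro k
        induction k with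
        | zero => simp
        | succ k ih =>
          calc (y' ^ (k + 1))⁻¹ * t' * y' ^ (k + 1) = y'⁻¹ * ((y' ^ k)⁻¹ * t' * y' ^ k) * y' := by
                rw [pow_succ]; group
            _ = y'⁻¹ * (t' * d ^ k) * y' := by rw [ih]
            _ = y'⁻¹ * t' * (d ^ k * y') := by group
            _ = y'⁻¹ * t' * (y' * d ^ k) := by
                have : y' * d ^ k = d ^ k * y' := ker_comm σ hc (pow_mem hdk k) y'
                rw [this]
            _ = (y'⁻¹ * t' * y') * d ^ k := by group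
            _ = t' * d * d ^ k := by rw [e4]
            _ = t' * d ^ (k + 1) := by rw [pow_succ']; group
      have h6 := key 6
      rw [hy'6, inv_one, one_mul, mul_one] at h6
      have hd6 : d ^ 6 = 1 := by
        have : t' * d ^ 6 = t' * 1 := by rw [mul_one]; exact h6.symm
        exact mul_left_cancel this
      have hd1 : d = 1 := by
        have : d ^ 6 = d ^ 5 * d := pow_succ d 5
        rw [hd5, one_mul] at this
        rw [← this]
        exact hd6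
      exact hd1

end

end Cfsg.Agent.Lib.Helper21.HNSchur
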