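import Cfsg.Agent.Lib.Helper21.HNSchur.LiftE

set_option autoImplicit false
set_option linter.style.haveILetI false

/-!
# Lifts of the four generators which satisfy all relations

Let `G = ⟨x, y, z, t⟩` with a perfect subgroup `H ∋ x, y` normalised by the involution `z ∉ H`, `H` a double cover of a
group with multiplier of order two, `t⁵ = 1`, `t^x = t⁻²`, `[t, y] = 1`, `(z t)³ = 1` and `x² ∈ ⟨z, t⟩` conjugate
to `z`.  For a finite stem extension `σ : Γ → G` with kernel of exponent `2`, `3` or `5` there are lifts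
`x', y', z', t'` with: `x', y', z'` lie in a subgroup which meets the kernel trivially (so every relation between
`x, y, z` lifts), and the four relations involving `t` lift as well.
-/

namespace Cfsg.Agent.Lib.Helper21.HNSchur

universe u

open Subgroup
open scoped commutatorElement

theorem exists_lifts {Γ G F : Type u} [Group Γ] [Finite Γ] [Group G] [Group F]
    (σ : Γ →* G) (hσ : Cfsg.IsStemExtension σ) (p : ℕ) (hp : p = 2 ∨ p = 3 ∨ p = 5)
    (hexp : ∀ a ∈ σ.ker, a ^ p = 1)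
    (H : Subgroup G) (hperf : ⁅H, H⁆ = H) (θ : ↥H →* F) (hθs : Function.Surjective θ)
    (hθ2 : Nat.card θ.ker = 2) (hF : Cfsg.HasCyclicSchurMultiplier F 2)
    (x y z t : G) (hxH : x ∈ H) (hyH : y ∈ H) (hzH : z ∉ H) (hzn : ∀ n ∈ H, z * n * z⁻¹ ∈ H)
    (hz2 : z * z = 1) (hx4 : x * x * (x * x) = 1) (hy6 : y ^ 6 = 1) (ht5 : t ^ 5 = 1)
    (htx : x⁻¹ * t * x * t ^ 2 = 1) (hty : t⁻¹ * y⁻¹ * t * y = 1) (hzt : (z * t) ^ 3 = 1)
    (hconj : t⁻¹ * z * t ^ 2 * z * (t⁻¹) ^ 2 * z * t = x * x) :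
    ∃ (S : Subgroup Γ) (x' y' z' t' : Γ), σ x' = x ∧ σ y' = y ∧ σ z' = z ∧ σ t' = t ∧
      x' ∈ S ∧ y' ∈ S ∧ z' ∈ S ∧ (∀ a ∈ σ.ker, a ∈ S → a = 1) ∧
      t' ^ 5 = 1 ∧ x'⁻¹ * t' * x' * t' ^ 2 = 1 ∧ t'⁻¹ * y'⁻¹ * t' * y' = 1 ∧ (z' * t') ^ 3 = 1 := by
  have hs := hσ.1
  have hc := hσ.2.1
  obtain ⟨hKmap, hKker⟩ := lift_perfect_cover σ hs hc H hperf θ hθs hθ2 hF
  set V : Subgroup Γ := H.comap σ with hV
  set K : Subgroup Γ := ⁅V, V⁆ with hK
  -- lifts of `z` normalise `K`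
  have hnorm : ∀ w : Γ, σ w = z → ∀ k ∈ K, w * k * w⁻¹ ∈ K := by
    intro w hw
    apply conj_mem_commutator V w
    intro v hv
    show σ (w * v * w⁻¹) ∈ H
    rw [map_mul, map_mul, map_inv, hw]
    exact hzn _ hv
  -- the lifts of `x` and `y`
  have hxK : x ∈ K.map σ := by rw [hKmap]; exact hxH
  have hyK : y ∈ K.map σ := by rw [hKmap]; exact hyH
  obtain ⟨x', hx'K, hx'⟩ := hxK
  obtain ⟨y', hy'K, hy'⟩ := hyK
  have hx'4 : x' * x' * (x' * x') = 1 := by
    apply hKker _ _ (K.mul_mem (K.mul_mem hx'K hx'K) (K.mul_mem hx'K hx'K))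
    rw [MonoidHom.mem_ker, map_mul, map_mul, hx', hx4]
  -- the lift of `z`
  obtain ⟨z', hz', hz'2⟩ := exists_lift_sq σ hs hc p hp hexp x z t hz2 ht5 hconj x' hx' hx'4
  have hzK : σ z' ∉ K.map σ := by rw [hKmap, hz']; exact hzH
  have hz'2K : z' * z' ∈ K := by rw [hz'2]; exact K.one_mem
  -- the subgroup `K ∪ K z'`
  let S : Subgroup Γ := extSubgroup K z' hz'2K (hnorm z' hz')
  have hS : ∀ a ∈ σ.ker, a ∈ S → a = 1 :=
    extSubgroup_inf_ker σ K z' hz'2K (hnorm z' hz') hKker hzK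
  have hx'S : x' ∈ S := le_extSubgroup K z' hz'2K (hnorm z' hz') hx'K
  have hy'S : y' ∈ S := le_extSubgroup K z' hz'2K (hnorm z' hz') hy'K
  have hz'S : z' ∈ S := self_mem_extSubgroup K z' hz'2K (hnorm z' hz')
  -- the lift of `t`
  obtain ⟨t', ht', ht'5, hr12, hr13⟩ :=
    exists_lift_t σ hs hc p hp hexp x y t hy6 ht5 htx hty S hS x' y' hx' hy' hy'S
  -- the last relation
  have hek : (z' * t') ^ 3 ∈ σ.ker := by
    rw [MonoidHom.mem_ker, map_pow, map_mul, hz', ht', hzt]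
  rcases hp with rfl | hp35
  · -- `p = 2`: absorb the defect into `z'`
    obtain ⟨e, hedef⟩ : ∃ e : Γ, e = (z' * t') ^ 3 := ⟨_, rfl⟩
    rw [← hedef] at hek
    have hec : ∀ g : Γ, g * e = e * g := fun g => ker_comm σ hc hek g
    have he2 : e * e = 1 := by rw [← pow_two]; exact hexp _ hek
    have hz'' : σ (z' * e) = z := by rw [map_mul, MonoidHom.mem_ker.mp hek, mul_one, hz']
    have hz''2 : z' * e * (z' * e) = 1 := by
      calc z' * e * (z' * e) = z' * (e * z') * e := by group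
        _ = z' * (z' * e) * e := by rw [← hec z']
        _ = (z' * z') * (e * e) := by group
        _ = 1 := by rw [hz'2, he2, one_mul]
    have hz''2K : z' * e * (z' * e) ∈ K := by rw [hz''2]; exact K.one_mem
    have hzK'' : σ (z' * e) ∉ K.map σ := by rw [hKmap, hz'']; exact hzH
    refine ⟨extSubgroup K (z' * e) hz''2K (hnorm _ hz''), x', y', z' * e, t', hx', hy', hz'', ht',
      le_extSubgroup K _ hz''2K (hnorm _ hz'') hx'K, le_extSubgroup K _ hz''2K (hnorm _ hz'') hy'K,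
      self_mem_extSubgroup K _ hz''2K (hnorm _ hz''),
      extSubgroup_inf_ker σ K _ hz''2K (hnorm _ hz'') hKker hzK'', ht'5, hr12, hr13, ?_⟩
    -- `(z' e t')³ = e³ e = 1`
    have h1 : z' * e * t' = (z' * t') * e := by
      calc z' * e * t' = z' * (e * t') := by group
        _ = z' * (t' * e) := by rw [← hec t']
        _ = (z' * t') * e := by group
    rw [h1, mul_pow_ker σ hc hek, ← hedef]
    have he2' : e ^ 2 = 1 := hexp _ hek
    calc e * e ^ 3 = e ^ 4 := (pow_succ' e 3).symm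
      _ = (e ^ 2) ^ 2 := by rw [← pow_mul]
      _ = 1 := by rw [he2', one_pow]
  · -- `p` odd
    refine ⟨S, x', y', z', t', hx', hy', hz', ht', hx'S, hy'S, hz'S, hS, ht'5, hr12, hr13, ?_⟩
    have hA : x'⁻¹ * t' * x' = (t' ^ 2)⁻¹ := eq_inv_of_mul_eq_one_left hr12
    have hst : (x' * x')⁻¹ * t' * (x' * x') = t' ^ 4 := by
      calc (x' * x')⁻¹ * t' * (x' * x') = x'⁻¹ * (x'⁻¹ * t' * x') * x' := by group
        _ = x'⁻¹ * (t' ^ 2)⁻¹ * x' := by rw [hA]
        _ = ((x'⁻¹ * t' * x') ^ 2)⁻¹ := by rw [conj_pow']; group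
        _ = (((t' ^ 2)⁻¹) ^ 2)⁻¹ := by rw [hA]
        _ = t' ^ 4 := by group
    have hmem : σ (x' * x') ∈ closure ({σ z', σ t'} : Set G) := by
      rw [map_mul, hx', hz', ht', ← hconj]
      have hzc : z ∈ closure ({z, t} : Set G) := subset_closure (by simp)
      have htc : t ∈ closure ({z, t} : Set G) := subset_closure (by simp)
      exact mul_mem (mul_mem (mul_mem (mul_mem (mul_mem (mul_mem (inv_mem htc) hzc) (pow_mem htc 2)) hzc)
        (pow_mem (inv_mem htc) 2)) hzc) htc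
    exact cube_eq_one_of_odd σ hc p hp35 hexp (x' * x') z' t' hx'4 hz'2 hst ht'5 hmem
      (by rw [hz', ht']; exact hzt)

end Cfsg.Agent.Lib.Helper21.HNSchur
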